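import Mathlib
import Cfsg.Agent.Prune
set_option linter.all false
prune_inst 0x7f00000000000000000000000000000000000000000000000000000000000000000000000000000000000000000000000000000000000000000000000000000000000000000000000000000000000000003fffffffffffffffffffffffffffbeffbdffffffff
open scoped Cfsg.Agent.FastGrp

/-!
# Dimension relations for elementary abelian groups of order 9 (helper175)
-/

set_option autoImplicit false
set_option linter.unusedSectionVars false
set_option linter.unusedSimpArgs false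

namespace Cfsg.Agent.H175.LD

open Module

section lin

variable {F : Type*} [Field F] {V : Type*} [AddCommGroup V] [Module F V] [FiniteDimensional F V]

/-- Orthogonal idempotents. -/
theorem sum_finrank {ι : Type*} [Fintype ι] [DecidableEq ι] (e : ι → (V →ₗ[F] V)) (hsum : ∀ x, ∑ i, e i x = x)
    (horth : ∀ i j, i ≠ j → ∀ x, e i (e j x) = 0) : finrank F V = ∑ i, finrank F (LinearMap.range (e i)) := by
  have hid : ∀ i x, e i (e i x) = e i x := by
    intro i x
    have h1 := congrArg (e i) (hsum x)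
    rw [map_sum, Finset.sum_eq_single i] at h1
    · exact h1
    · intro j _ hj; exact horth i j hj.symm x
    · intro h; exact absurd (Finset.mem_univ _) h
  let Φ : V →ₗ[F] (∀ i, LinearMap.range (e i)) := LinearMap.pi fun i => (e i).rangeRestrict
  have hΦ : ∀ x i, ((Φ x i : LinearMap.range (e i)) : V) = e i x := fun x i => rfl
  have hinj : Function.Injective Φ := by
    rw [← LinearMap.ker_eq_bot, LinearMap.ker_eq_bot']
    intro x hx
    rw [← hsum x]
    apply Finset.sum_eq_zero
    intro i _
    rw [← hΦ, hx]; rfl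
  have hsurj : Function.Surjective Φ := by
    intro y
    refine ⟨∑ i, (y i : V), ?_⟩
    funext i
    apply Subtype.ext
    rw [hΦ, map_sum, Finset.sum_eq_single i]
    · obtain ⟨z, hz⟩ := (y i).2
      rw [← hz, hid]
    · intro j _ hj
      obtain ⟨z, hz⟩ := (y j).2
      rw [← hz, horth i j hj.symm]
    · intro h; exact absurd (Finset.mem_univ _) h
  rw [(LinearEquiv.ofBijective Φ ⟨hinj, hsurj⟩).finrank_eq, finrank_pi_fintype]

/-- The fixed vectors of `T`. -/
def Fk (T : V →ₗ[F] V) : Submodule F V := LinearMap.eqLocus T LinearMap.id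

theorem mem_Fk {T : V →ₗ[F] V} {x : V} : x ∈ Fk T ↔ T x = x := Iff.rfl

/-- Average. -/
noncomputable def av (T : V →ₗ[F] V) : V →ₗ[F] V := (3 : F)⁻¹ • (LinearMap.id + T + T ∘ₗ T)

theorem av_apply (T : V →ₗ[F] V) (x : V) : av T x = (3 : F)⁻¹ • (x + T x + T (T x)) := rfl

theorem av_fix (h3 : (3 : F) ≠ 0) {T : V →ₗ[F] V} {x : V} (h : T x = x) : av T x = x := by
  rw [av_apply, h, h]
  have : x + x + x = (3 : F) • x := by module
  rw [this, smul_smul, inv_mul_cancel₀ h3, one_smul]

theorem fix_av {T : V →ₗ[F] V} {x : V} (h : T (T (T x)) = x) : T (av T x) = av T x := by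
  rw [av_apply, map_smul, map_add, map_add, h]
  congr 1
  abel

theorem range_av (h3 : (3 : F) ≠ 0) {T : V →ₗ[F] V} (hT : ∀ x, T (T (T x)) = x) : LinearMap.range (av T) = Fk T := by
  apply le_antisymm
  · rintro _ ⟨x, rfl⟩
    exact fix_av (hT x)
  · intro x hx
    exact ⟨x, av_fix h3 hx⟩

variable (h3 : (3 : F) ≠ 0) {R S : V →ₗ[F] V} (hc : ∀ x, S (R x) = R (S x)) (hR : ∀ x, R (R (R x)) = x)
  (hS : ∀ x, S (S (S x)) = x)

include h3 hc hR hS in
/-- **The dimension relation of the elementary abelian group of order 9.** -/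
theorem four_rel : finrank F V + 3 * finrank F (Fk R ⊓ Fk S : Submodule F V) =
    finrank F (Fk R) + finrank F (Fk S) + finrank F (Fk (R ∘ₗ S)) + finrank F (Fk (R ∘ₗ S ∘ₗ S)) := by
  have e9 : (3 : F)⁻¹ * 3 = 1 := inv_mul_cancel₀ h3
  set T1 := R ∘ₗ S with hT1
  set T2 := R ∘ₗ S ∘ₗ S with hT2
  have a1 : ∀ x, T1 x = R (S x) := fun x => rfl
  have a2 : ∀ x, T2 x = R (S (S x)) := fun x => rfl
  have hT1' : ∀ x, T1 (T1 (T1 x)) = x := by intro x; simp only [a1, hc, hR, hS]
  have hT2' : ∀ x, T2 (T2 (T2 x)) = x := by intro x; simp only [a2, hc, hR, hS]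
  set E : V →ₗ[F] V := av R ∘ₗ av S with hE
  have hEx : ∀ x, E x = av R (av S x) := fun x => rfl
  have hSR : ∀ x, av S (av R x) = E x := by
    intro x
    simp only [hEx, av_apply, map_smul, map_add, hc]
    module
  have hR1 : ∀ x, av R (av T1 x) = E x := by
    intro x
    simp only [hEx, av_apply, map_smul, map_add, a1, hc, hR]
    module
  have h1R : ∀ x, av T1 (av R x) = E x := by
    intro x
    simp only [hEx, av_apply, map_smul, map_add, a1, hc, hR]
    module
  have hS1 : ∀ x, av S (av T1 x) = E x := by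
    intro x
    simp only [hEx, av_apply, map_smul, map_add, a1, hc, hR, hS]
    module
  have h1S : ∀ x, av T1 (av S x) = E x := by
    intro x
    simp only [hEx, av_apply, map_smul, map_add, a1, hc, hR, hS]
    module
  have hR2 : ∀ x, av R (av T2 x) = E x := by
    intro x
    simp only [hEx, av_apply, map_smul, map_add, a2, hc, hR, hS]
    module
  have h2R : ∀ x, av T2 (av R x) = E x := by
    intro x
    simp only [hEx, av_apply, map_smul, map_add, a2, hc, hR, hS]
    module
  have hS2 : ∀ x, av S (av T2 x) = E x := by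
    intro x
    simp only [hEx, av_apply, map_smul, map_add, a2, hc, hR, hS]
    module
  have h2S : ∀ x, av T2 (av S x) = E x := by
    intro x
    simp only [hEx, av_apply, map_smul, map_add, a2, hc, hR, hS]
    module
  have h12 : ∀ x, av T1 (av T2 x) = E x := by
    intro x
    simp only [hEx, av_apply, map_smul, map_add, a1, a2, hc, hR, hS]
    module
  have h21 : ∀ x, av T2 (av T1 x) = E x := by
    intro x
    simp only [hEx, av_apply, map_smul, map_add, a1, a2, hc, hR, hS]
    module
  have hsum : ∀ x, av R x + av S x + av T1 x + av T2 x = x + (3 : F) • E x := by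
    intro x
    have hx : x = (3 : F)⁻¹ • ((3 : F) • x) := by rw [smul_smul, e9, one_smul]
    simp only [hEx, av_apply, map_smul, map_add, a1, a2, hc, hR, hS]
    rw [smul_smul, mul_inv_cancel₀ h3, one_smul]
    linear_combination (norm := module) -hx
  have hE1 : ∀ x, E (E x) = E x := by
    intro x
    rw [← hSR x, hEx, av_fix h3 (T := S) (fix_av (hS _)), hSR, hEx x, av_fix h3 (fix_av (hR _))]
  -- fixed spaces
  have key : ∀ (e : V →ₗ[F] V), (∀ x, e (e x) = e x) → (∀ x, e (E x) = E x) → (∀ x, E (e x) = E x) →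
      finrank F (LinearMap.range e) = finrank F (LinearMap.range (e - E)) + finrank F (LinearMap.range E) := by
    intro e h1 h2 h3'
    obtain ⟨e', he'⟩ : ∃ e' : V →ₗ[F] V, ∀ x, e' x = x - e x := ⟨LinearMap.id - e, fun x => rfl⟩
    have s1 := sum_finrank (F := F) (V := V) ![e, e'] (by intro x; simp [Fin.sum_univ_two, he']) (by
      intro i j hij x
      fin_cases i <;> fin_cases j
      · exact absurd rfl hij
      · simp [h1, he']
      · simp [h1, he']
      · exact absurd rfl hij)
    have s2 := sum_finrank (F := F) (V := V) ![e - E, E, e'] (by intro x; simp [Fin.sum_univ_three, he']) (by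
      intro i j hij x
      fin_cases i <;> fin_cases j
      · exact absurd rfl hij
      · simp [h2, hE1]
      · simp [h1, h3', he']
      · simp [h3', hE1]
      · exact absurd rfl hij
      · simp [h3', he']
      · simp [h1, h2, he']
      · simp [h2, he']
      · exact absurd rfl hij)
    rw [Fin.sum_univ_two] at s1
    rw [Fin.sum_univ_three] at s2
    change finrank F V = finrank F (LinearMap.range e) + finrank F (LinearMap.range e') at s1
    change finrank F V = finrank F (LinearMap.range (e - E)) + finrank F (LinearMap.range E) +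
      finrank F (LinearMap.range e') at s2
    omega
  have idem : ∀ T : V →ₗ[F] V, (∀ x, T (T (T x)) = x) → ∀ x, av T (av T x) = av T x :=
    fun T hT x => av_fix h3 (fix_av (hT x))
  have iR := idem R hR
  have iS := idem S hS
  have i1 := idem T1 hT1'
  have i2 := idem T2 hT2'
  have RE : ∀ x, av R (E x) = E x := fun x => by rw [hEx, iR]
  have ER : ∀ x, E (av R x) = E x := fun x => by rw [hEx, hSR, RE]
  have ES : ∀ x, E (av S x) = E x := fun x => by rw [hEx, iS, ← hEx]
  have SE : ∀ x, av S (E x) = E x := fun x => by rw [← hSR, iS]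
  have e1E : ∀ x, av T1 (E x) = E x := fun x => by rw [← h1R, i1]
  have E1 : ∀ x, E (av T1 x) = E x := fun x => by rw [hEx, hS1, RE]
  have e2E : ∀ x, av T2 (E x) = E x := fun x => by rw [← h2R, i2]
  have E2 : ∀ x, E (av T2 x) = E x := fun x => by rw [hEx, hS2, RE]
  have k1 := key (av R) iR RE ER
  have k2 := key (av S) iS SE ES
  have k3 := key (av T1) i1 e1E E1
  have k4 := key (av T2) i2 e2E E2
  have s := sum_finrank (F := F) (V := V) ![E, av R - E, av S - E, av T1 - E, av T2 - E] (by
    intro x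
    have := hsum x
    rw [Fin.sum_univ_five]
    change E x + (av R x - E x) + (av S x - E x) + (av T1 x - E x) + (av T2 x - E x) = x
    linear_combination (norm := module) this) (by
    intro i j hij x
    fin_cases i <;> fin_cases j <;>
      first
      | exact absurd rfl hij
      | simp [RE, ER, ES, SE, e1E, E1, e2E, E2, hE1, hSR, hR1, h1R, hS1, h1S, hR2, h2R, hS2, h2S, h12, h21, ← hEx])
  rw [Fin.sum_univ_five] at s
  change finrank F V = finrank F (LinearMap.range E) + finrank F (LinearMap.range (av R - E)) +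
    finrank F (LinearMap.range (av S - E)) + finrank F (LinearMap.range (av T1 - E)) +
    finrank F (LinearMap.range (av T2 - E)) at s
  have rE : LinearMap.range E = Fk R ⊓ Fk S := by
    apply le_antisymm
    · rintro _ ⟨x, rfl⟩
      refine ⟨?_, ?_⟩
      · show R (E x) = E x
        rw [hEx]; exact fix_av (hR _)
      · show S (E x) = E x
        rw [← hSR]; exact fix_av (hS _)
    · rintro x ⟨h1, h2⟩
      exact ⟨x, by rw [hEx, av_fix h3 h2, av_fix h3 h1]⟩
  rw [range_av h3 hR] at k1
  rw [range_av h3 hS] at k2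
  rw [range_av h3 hT1'] at k3
  rw [range_av h3 hT2'] at k4
  rw [← rE]
  omega

/-- An element of order 3 inverted by a linear map has no non-trivial action on a line. -/
theorem no_one (h3 : (3 : F) ≠ 0) {T H : V →ₗ[F] V} (hT : ∀ x, T (T (T x)) = x) (hH : ∀ x, T (H (T x)) = H x)
    (hinj : Function.Injective H) : finrank F V ≠ finrank F (Fk T) + 1 := by
  intro hcon
  let D : V →ₗ[F] V := T - LinearMap.id
  have hD : ∀ x, D x = T x - x := fun x => rfl
  have hker : LinearMap.ker D = Fk T := by
    ext x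
    rw [LinearMap.mem_ker, hD, sub_eq_zero, mem_Fk]
  have h1 : finrank F (LinearMap.range D) = 1 := by
    have := LinearMap.finrank_range_add_finrank_ker D
    rw [hker] at this
    omega
  obtain ⟨⟨u, hu⟩, hu0, huspan⟩ := finrank_eq_one_iff'.1 h1
  have hu0' : u ≠ 0 := fun h => hu0 (Subtype.ext h)
  have hsp : ∀ w ∈ LinearMap.range D, ∃ c : F, c • u = w := by
    intro w hw
    obtain ⟨c, hc⟩ := huspan ⟨w, hw⟩
    exact ⟨c, congrArg Subtype.val hc⟩
  obtain ⟨κ, hκ⟩ := hsp (T u) (by
    obtain ⟨y, rfl⟩ := hu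
    exact ⟨T y, by rw [hD, hD, map_sub]⟩)
  obtain ⟨η, hη⟩ := hsp (H u) (by
    obtain ⟨y, rfl⟩ := hu
    refine ⟨-(H (T y)), ?_⟩
    rw [hD, hD, map_neg, hH, map_sub]
    abel)
  have hη0 : η ≠ 0 := by
    rintro rfl
    rw [zero_smul] at hη
    exact hu0' (hinj (by rw [← hη, map_zero]))
  have e1 : κ ^ 3 = 1 := by
    have := hT u
    rw [← hκ, map_smul, ← hκ, map_smul, map_smul, ← hκ, smul_smul, smul_smul] at this
    have h2 : (κ * κ * κ - 1) • u = 0 := by rw [sub_smul, one_smul, this, sub_self]
    rcases smul_eq_zero.1 h2 with h | h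
    · linear_combination h
    · exact absurd h hu0'
  have e2 : κ ^ 2 = 1 := by
    have := hH u
    rw [← hκ, map_smul, ← hη, map_smul, map_smul, ← hκ, smul_smul, smul_smul] at this
    have h2 : (κ * η * κ - η) • u = 0 := by rw [sub_smul, this, sub_self]
    rcases smul_eq_zero.1 h2 with h | h
    · have : η * (κ ^ 2 - 1) = 0 := by linear_combination h
      rcases mul_eq_zero.1 this with h | h
      · exact absurd h hη0
      · linear_combination h
    · exact absurd h hu0'
  have e3 : κ = 1 := by linear_combination e1 - κ * e2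
  have hTu : T u = u := by rw [← hκ, e3, one_smul]
  have hLT : ∀ w ∈ LinearMap.range D, T w = w := by
    intro w hw
    obtain ⟨c, rfl⟩ := hsp w hw
    rw [map_smul, hTu]
  obtain ⟨y, hy⟩ := hu
  have e4 : T (T y) - T y = T y - y := by
    have := hLT (D y) ⟨y, rfl⟩
    rwa [hD, map_sub] at this
  have e5 : T (T (T y)) - T (T y) = T (T y) - T y := by
    have := congrArg T e4
    rwa [map_sub, map_sub] at this
  rw [hT] at e5
  have e6 : (3 : F) • (T y - y) = 0 := by
    linear_combination (norm := module) (-2 : F) • e4 - e5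
  rcases smul_eq_zero.1 e6 with h | h
  · exact h3 h
  · exact hu0' (by rw [← hy, hD, h])

/-- restriction to an invariant subspace -/
theorem finrank_restrict {Y : Submodule F V} (Z : Submodule F Y)
    (Z' : Submodule F V) (h : ∀ y : Y, y ∈ Z ↔ (y : V) ∈ Z') : finrank F Z = finrank F (Y ⊓ Z' : Submodule F V) := by
  rw [← Submodule.finrank_map_subtype_eq Y Z]
  have : Submodule.map Y.subtype Z = Y ⊓ Z' := ?_
  · rw [this]
  ext x
  constructor
  · rintro ⟨y, hy, rfl⟩
    exact ⟨y.2, (h y).1 hy⟩
  · rintro ⟨h1, h2⟩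
    exact ⟨⟨x, h1⟩, (h ⟨x, h1⟩).2 h2, rfl⟩

/-- `four_rel` on an invariant subspace. -/
theorem four_rel_on (h3 : (3 : F) ≠ 0) (Y : Submodule F V) {R S : V →ₗ[F] V} (hRY : ∀ y ∈ Y, R y ∈ Y)
    (hSY : ∀ y ∈ Y, S y ∈ Y) (hc : ∀ y ∈ Y, S (R y) = R (S y)) (hR : ∀ y ∈ Y, R (R (R y)) = y)
    (hS : ∀ y ∈ Y, S (S (S y)) = y) :
    finrank F Y + 3 * finrank F (Y ⊓ (Fk R ⊓ Fk S) : Submodule F V) =
      finrank F (Y ⊓ Fk R : Submodule F V) + finrank F (Y ⊓ Fk S : Submodule F V) +
      finrank F (Y ⊓ Fk (R ∘ₗ S) : Submodule F V) + finrank F (Y ⊓ Fk (R ∘ₗ S ∘ₗ S) : Submodule F V) := by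
  have h := four_rel (V := Y) h3 (R := R.restrict hRY) (S := S.restrict hSY) (fun x => Subtype.ext (hc x x.2))
    (fun x => Subtype.ext (hR x x.2)) (fun x => Subtype.ext (hS x x.2))
  rw [finrank_restrict (Fk (R.restrict hRY) ⊓ Fk (S.restrict hSY)) (Fk R ⊓ Fk S) (fun y => ?_),
    finrank_restrict (Fk (R.restrict hRY)) (Fk R) (fun y => ?_),
    finrank_restrict (Fk (S.restrict hSY)) (Fk S) (fun y => ?_),
    finrank_restrict (Fk (R.restrict hRY ∘ₗ S.restrict hSY)) (Fk (R ∘ₗ S)) (fun y => ?_),
    finrank_restrict (Fk (R.restrict hRY ∘ₗ S.restrict hSY ∘ₗ S.restrict hSY)) (Fk (R ∘ₗ S ∘ₗ S)) (fun y => ?_)] at h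
  · exact h
  · exact Subtype.ext_iff
  · exact Subtype.ext_iff
  · exact Subtype.ext_iff
  · exact Subtype.ext_iff
  · rw [Submodule.mem_inf, Submodule.mem_inf]
    exact and_congr Subtype.ext_iff Subtype.ext_iff

/-- `no_one` on an invariant subspace. -/
theorem no_one_on (h3 : (3 : F) ≠ 0) (Y : Submodule F V) {T H : V →ₗ[F] V} (hTY : ∀ y ∈ Y, T y ∈ Y)
    (hHY : ∀ y ∈ Y, H y ∈ Y) (hT : ∀ x ∈ Y, T (T (T x)) = x) (hH : ∀ x ∈ Y, T (H (T x)) = H x)
    (hinj : Function.Injective H) : finrank F Y ≠ finrank F (Y ⊓ Fk T : Submodule F V) + 1 := by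
  have h := no_one (V := Y) h3 (T := T.restrict hTY) (H := H.restrict hHY) (fun x => Subtype.ext (hT x x.2))
    (fun x => Subtype.ext (hH x x.2)) (fun x y hxy => Subtype.ext (hinj (congrArg Subtype.val hxy)))
  rwa [finrank_restrict (Fk (T.restrict hTY)) (Fk T) (fun y => Subtype.ext_iff)] at h

end lin

end Cfsg.Agent.H175.LD
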