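import Mathlib
import Cfsg.Agent.H175.LD.Four
import Cfsg.Agent.H906.Cover_m3
import Cfsg.Agent.H60.MultA
import Cfsg.Agent.LieClassical.FieldTransfer
import Cfsg.Agent.Lib.Refl
import Cfsg.Agent.Lib.DetFast
import Cfsg.Agent.FastGrp
import Cfsg.Agent.Prune
set_option linter.all false
prune_inst 0x7fffedfffbfbfbffdfff7e7fa7deeffdffbfbfffe6fffdcbffe06bffab9f7b16cde5fbad8feaf3fe1ff6621c50fa7b53fffffeffe86fdc7ffffd5ff41ffbffcffdf7b50871de8cbe1fbc2fff03f0778e7f3fffffffffffffffffffffffffffbeffbfffffffff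
open scoped Cfsg.Agent.FastGrp

-- part: H175/LD/S33
section
/-!
# Elements of `SL₃(3)` (helper175)

`U i j k`, `L i j k` unitriangular, `n1`, `n2`, `s12`, `s21`, `s0` monomial, `z1`, `z2`, `z12` diagonal; `bruhat`.
-/

set_option autoImplicit false

namespace Cfsg.Agent.H175.LD

open Matrix

/-- `SL₃(3)` -/
abbrev X3 := _root_.Matrix.SpecialLinearGroup (Fin 3) (ZMod 3)

/-- upper unitriangular matrices -/
def U (i j k : ZMod 3) : X3 := ⟨!![1, i, k; 0, 1, j; 0, 0, 1], by simp [Matrix.det_fin_three]⟩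

/-- lower unitriangular matrices -/
def L (i j k : ZMod 3) : X3 := ⟨!![1, 0, 0; i, 1, 0; k, j, 1], by simp [Matrix.det_fin_three]⟩

def n1 : X3 := ⟨!![0, 1, 0; -1, 0, 0; 0, 0, 1], by decide +kernel⟩
def n2 : X3 := ⟨!![1, 0, 0; 0, 0, 1; 0, -1, 0], by decide +kernel⟩
def s21 : X3 := ⟨!![0, 1, 0; 0, 0, 1; 1, 0, 0], by decide +kernel⟩
def s12 : X3 := ⟨!![0, 0, 1; -1, 0, 0; 0, -1, 0], by decide +kernel⟩
def s0 : X3 := ⟨!![0, 0, 1; 0, -1, 0; 1, 0, 0], by decide +kernel⟩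
def z1 : X3 := ⟨!![-1, 0, 0; 0, -1, 0; 0, 0, 1], by decide +kernel⟩
def z2 : X3 := ⟨!![1, 0, 0; 0, -1, 0; 0, 0, -1], by decide +kernel⟩
def z12 : X3 := ⟨!![-1, 0, 0; 0, 1, 0; 0, 0, -1], by decide +kernel⟩

theorem U_mul (i j k i' j' k' : ZMod 3) : U i j k * U i' j' k' = U (i + i') (j + j') (k + k' + i * j') := by
  apply Subtype.ext
  change !![1, i, k; 0, 1, j; 0, 0, 1] * !![1, i', k'; 0, 1, j'; 0, 0, 1] =
    !![1, i + i', k + k' + i * j'; 0, 1, j + j'; 0, 0, 1]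
  ext r s
  (revert r s; simp only [Matrix.mul_apply, Fin.sum_univ_three, _root_.Fin.forall_fin_succ, _root_.Matrix.of_apply, _root_.Matrix.cons_val', _root_.Matrix.cons_val_fin_one, Fin.isValue, _root_.Matrix.cons_val_zero, _root_.Matrix.cons_val_one, _root_.Matrix.cons_val, _root_.mul_one, _root_.MulZeroClass.mul_zero, _root_.add_zero, _root_.Matrix.cons_val_succ, _root_.forall_const, _root_.true_and, _root_.one_mul, _root_.add_eq_right, _root_.mul_eq_zero, _root_.true_or, _root_.MulZeroClass.zero_mul, _root_.zero_add, _root_.and_self, _root_.implies_true, _root_.and_true]) <;> (repeat' with_reducible apply And.intro) <;> ring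

theorem L_mul (i j i' j' : ZMod 3) : L i 0 j * L i' 0 j' = L (i + i') 0 (j + j') := by
  apply Subtype.ext
  change !![1, 0, 0; i, 1, 0; j, 0, 1] * !![1, 0, 0; i', 1, 0; j', 0, 1] =
    !![1, 0, 0; i + i', 1, 0; j + j', 0, 1]
  ext r s
  (revert r s; simp only [Matrix.mul_apply, Fin.sum_univ_three, _root_.Fin.forall_fin_succ, _root_.Matrix.of_apply, _root_.Matrix.cons_val', _root_.Matrix.cons_val_fin_one, Fin.isValue, _root_.Matrix.cons_val_zero, _root_.Matrix.cons_val_one, _root_.Matrix.cons_val, _root_.mul_one, _root_.Matrix.cons_val_succ, _root_.MulZeroClass.mul_zero, _root_.zero_add, _root_.add_zero, _root_.implies_true, _root_.and_self, _root_.and_true, _root_.MulZeroClass.zero_mul, _root_.one_mul])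

theorem L_zero : L 0 0 0 = 1 := by decide

theorem n1_sq : n1 * n1 = z1 := by decide
theorem n2_sq : n2 * n2 = z2 := by decide
theorem z1_sq : z1 * z1 = 1 := by decide
theorem z2_sq : z2 * z2 = 1 := by decide
theorem z1_z2 : z1 * z2 = z12 := by decide
theorem n2_n1 : n2 * n1 = s21 := by decide
theorem n1_n2 : n1 * n2 = s12 := by decide
theorem n1_s21 : n1 * s21 = s0 := by decide
/-- diagonal -/
def dg (k : Fin 4) : X3 := ![1, z1, z2, z12] k

theorem dg_sq : ∀ k, dg k * dg k = 1 := by decide +kernel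

/-- first column -/
theorem col1 : ∀ x y z : ZMod 3, ¬ (x = 0 ∧ y = 0 ∧ z = 0) → ∃ i j k : ZMod 3, ∃ w : Fin 3,
    ((U i j k * ![1, n1, s21] w)⁻¹.1 *ᵥ ![x, y, z]) 1 = 0 ∧ ((U i j k * ![1, n1, s21] w)⁻¹.1 *ᵥ ![x, y, z]) 2 = 0 := by
  (set_option synthInstance.maxSize 100000 in exact Cfsg.Agent.Lib.Refl.of (by ((try (rewrite [Cfsg.Agent.LsF.instSLMul_eq, Cfsg.Agent.LsF.instSLInv_eq, Cfsg.Agent.LsF.instSLOne_eq, Cfsg.Agent.LsF.zcast_pat, Cfsg.Agent.LsF.vecCons_eq, Cfsg.Agent.LsF.zval_eq])); decide +kernel)))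

theorem col2 : ∀ x y : ZMod 3, ¬ (x = 0 ∧ y = 0) → ∃ j : ZMod 3, ∃ w : Fin 2,
    (∀ x0 : ZMod 3, ((U 0 j 0 * ![1, n2] w)⁻¹.1 *ᵥ ![x0, x, y]) 2 = 0) ∧
    (∀ x0 : ZMod 3, ((U 0 j 0 * ![1, n2] w)⁻¹.1 *ᵥ ![x0, 0, 0]) 1 = 0) ∧
    (∀ x0 : ZMod 3, ((U 0 j 0 * ![1, n2] w)⁻¹.1 *ᵥ ![x0, 0, 0]) 2 = 0) := by
  (set_option synthInstance.maxSize 100000 in exact Cfsg.Agent.Lib.Refl.of (by ((try (rewrite [Cfsg.Agent.LsF.instSLMul_eq, Cfsg.Agent.LsF.instSLInv_eq, Cfsg.Agent.LsF.instSLOne_eq, Cfsg.Agent.LsF.zcast_pat, Cfsg.Agent.LsF.vecCons_eq, Cfsg.Agent.LsF.zval_eq])); decide +kernel)))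

theorem diag : ∀ d1 d2 d3 : ZMod 3, d1 * d2 * d3 = 1 → ∃ k, (dg k).1 = !![d1, 0, 0; 0, d2, 0; 0, 0, d3] := by
  decide +kernel

theorem sq_one : ∀ d1 d2 d3 : ZMod 3, d1 * d2 * d3 = 1 → d1 * d1 = 1 ∧ d2 * d2 = 1 ∧ d3 * d3 = 1 := by
  decide

/-- upper triangular elements -/
def Up (b : X3) : Prop := b.1 1 0 = 0 ∧ b.1 2 0 = 0 ∧ b.1 2 1 = 0

theorem up_eq {b : X3} (h : Up b) : ∃ i j k : ZMod 3, ∃ d, b = U i j k * dg d := by
  obtain ⟨h1, h2, h3⟩ := h
  have e : b.1 = !![b.1 0 0, b.1 0 1, b.1 0 2; 0, b.1 1 1, b.1 1 2; 0, 0, b.1 2 2] := by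
    ext r s
    fin_cases r <;> fin_cases s
    · rfl
    · rfl
    · rfl
    · exact h1
    · rfl
    · rfl
    · exact h2
    · exact h3
    · rfl
  have hdet : b.1 0 0 * b.1 1 1 * b.1 2 2 = 1 := by
    have := b.2
    rw [e, Matrix.det_fin_three] at this
    simpa only [_root_.Fin.isValue, _root_.Matrix.of_apply, _root_.Matrix.cons_val', _root_.Matrix.cons_val_zero, _root_.Matrix.cons_val_fin_one, _root_.Matrix.cons_val_one, _root_.Matrix.cons_val, _root_.MulZeroClass.mul_zero, _root_.sub_zero, _root_.MulZeroClass.zero_mul, _root_.add_zero] using this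
  obtain ⟨q1, q2, q3⟩ := sq_one _ _ _ hdet
  obtain ⟨d, hd⟩ := diag _ _ _ hdet
  refine ⟨b.1 0 1 * b.1 1 1, b.1 1 2 * b.1 2 2, b.1 0 2 * b.1 2 2, d, ?_⟩
  have h5 : b * dg d = U (b.1 0 1 * b.1 1 1) (b.1 1 2 * b.1 2 2) (b.1 0 2 * b.1 2 2) := by
    apply Subtype.ext
    change b.1 * (dg d).1 = !![1, b.1 0 1 * b.1 1 1, b.1 0 2 * b.1 2 2; 0, 1, b.1 1 2 * b.1 2 2; 0, 0, 1]
    rw [hd]
    ext r s
    (revert r s; simp only [Matrix.mul_apply, Fin.sum_univ_three, q1, q2, q3, h1, h2, h3, _root_.Fin.forall_fin_succ, Fin.isValue, _root_.Matrix.of_apply, _root_.Matrix.cons_val', _root_.Matrix.cons_val_fin_one, _root_.Matrix.cons_val_zero, _root_.Matrix.cons_val_one, _root_.Matrix.cons_val, _root_.MulZeroClass.mul_zero, _root_.add_zero, _root_.Matrix.cons_val_succ, _root_.zero_add, _root_.forall_const, _root_.and_self, _root_.Fin.succ_zero_eq_one, _root_.MulZeroClass.zero_mul, _root_.mul_eq_zero, _root_.Fin.succ_one_eq_two,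 _root_.true_or, _root_.IsEmpty.forall_iff])
  rw [← h5, mul_assoc, dg_sq, mul_one]

theorem mulVec_col (g h : X3) (s : Fin 3) (r : Fin 3) :
    (g.1 *ᵥ ![h.1 0 s, h.1 1 s, h.1 2 s]) r = (g * h).1 r s := by
  change (g.1 *ᵥ ![h.1 0 s, h.1 1 s, h.1 2 s]) r = (g.1 * h.1) r s
  rw [Matrix.mul_apply, Matrix.mulVec, dotProduct]
  simp only [Fin.sum_univ_three, _root_.Fin.isValue, _root_.Matrix.cons_val_zero, _root_.Matrix.cons_val_one, _root_.Matrix.cons_val]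

theorem weyl_b : ∀ (w : Fin 3) (j : ZMod 3), ![1, n1, s21] w * U 0 j 0 =
    ![U 0 j 0, U 0 0 j, U j 0 0] w * ![1, n1, s21] w := by
  decide +kernel

/-- the Weyl group -/
def wl (k : Fin 6) : X3 := ![1, n1, n2, s12, s21, s0] k

theorem wl_mul : ∀ (w : Fin 3) (w' : Fin 2), ∃ k, ![1, n1, s21] w * ![1, n2] w' = wl k := by
  decide +kernel

/-- **Bruhat decomposition** -/
theorem bruhat (g : X3) : ∃ i j k : ZMod 3, ∃ w b, Up b ∧ g = U i j k * wl w * b := by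
  have hc1 : ¬ (g.1 0 0 = 0 ∧ g.1 1 0 = 0 ∧ g.1 2 0 = 0) := by
    rintro ⟨h1, h2, h3⟩
    have := g.2
    rw [Matrix.det_fin_three, h1, h2, h3] at this
    simp only [_root_.Fin.isValue, _root_.MulZeroClass.zero_mul, _root_.sub_self, _root_.MulZeroClass.mul_zero, _root_.add_zero, _root_.zero_ne_one] at this
  obtain ⟨i, j, k, w, h1, h2⟩ := col1 _ _ _ hc1
  rw [mulVec_col] at h1 h2
  set p := (U i j k * ![1, n1, s21] w)⁻¹ * g with hp
  have hc2 : ¬ (p.1 1 1 = 0 ∧ p.1 2 1 = 0) := by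
    rintro ⟨h3, h4⟩
    have := p.2
    rw [Matrix.det_fin_three, h1, h2, h3, h4] at this
    simp only [_root_.Fin.isValue, _root_.MulZeroClass.mul_zero, _root_.MulZeroClass.zero_mul, _root_.sub_self, _root_.add_zero, _root_.zero_ne_one] at this
  obtain ⟨j', w', h3, h4, h5⟩ := col2 _ _ hc2
  have h3' := h3 (p.1 0 1)
  rw [mulVec_col] at h3'
  set b := (U 0 j' 0 * ![1, n2] w')⁻¹ * p with hb
  obtain ⟨m, hm⟩ := wl_mul w w'
  have hU : ∃ i₂ j₂ k₂, ![1, n1, s21] w * U 0 j' 0 = U i₂ j₂ k₂ * ![1, n1, s21] w := by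
    have := weyl_b w j'
    fin_cases w
    · exact ⟨_, _, _, this⟩
    · exact ⟨_, _, _, this⟩
    · exact ⟨_, _, _, this⟩
  obtain ⟨i₂, j₂, k₂, hw2⟩ := hU
  refine ⟨i + i₂, j + j₂, k + k₂ + i * j₂, m, b, ⟨?_, ?_, h3'⟩, ?_⟩
  · rw [← mulVec_col, h1, h2]
    exact h4 _
  · rw [← mulVec_col, h1, h2]
    exact h5 _
  · rw [hb, hp, ← U_mul, ← hm]
    have : U i j k * U i₂ j₂ k₂ * (![1, n1, s21] w * ![1, n2] w') = U i j k * ![1, n1, s21] w * (U 0 j' 0 * ![1, n2] w') := by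
      rw [← mul_assoc (U i j k * U i₂ j₂ k₂), mul_assoc (U i j k) (U i₂ j₂ k₂) _, ← hw2]
      group
    rw [this]
    group

/-- every element is `u w u' d` -/
theorem bruhat' (g : X3) : ∃ i j k i' j' k' : ZMod 3, ∃ w d, g = U i j k * wl w * (U i' j' k' * dg d) := by
  obtain ⟨i, j, k, w, b, hb, rfl⟩ := bruhat g
  obtain ⟨i', j', k', d, rfl⟩ := up_eq hb
  exact ⟨i, j, k, i', j', k', w, d, rfl⟩

theorem U_pow : ∀ i j k : ZMod 3, U i j k = U 1 0 0 ^ i.val * U 0 1 0 ^ j.val * U 0 0 1 ^ (k - i * j).val := by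
  (refine of_decide_eq_true ?_; (try (rewrite [Cfsg.Agent.LsF.instSLMul_eq, Cfsg.Agent.LsF.instSLPow_eq, Cfsg.Agent.LsF.dSL_eq, Cfsg.Agent.LsF.zmul_pat, Cfsg.Agent.LsF.zsub_pat, Cfsg.Agent.LsF.zdecEq_eq, Cfsg.Agent.LsF.zval_eq, Cfsg.Agent.LsF.zFintype_eq, Cfsg.Agent.LsF.dForall_eq, Cfsg.Agent.LsF.decide_eq])); decide +kernel)

theorem U_mem {N : Subgroup X3} (ha : U 1 0 0 ∈ N) (hb : U 0 1 0 ∈ N) (hc : U 0 0 1 ∈ N) (i j k : ZMod 3) :
    U i j k ∈ N := by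
  rw [U_pow]
  exact N.mul_mem (N.mul_mem (N.pow_mem ha _) (N.pow_mem hb _)) (N.pow_mem hc _)

theorem U_mem' {N : Subgroup X3} (ha : U 1 0 0 ∈ N) (hb : U 0 1 0 ∈ N) (i j k : ZMod 3) : U i j k ∈ N := by
  refine U_mem ha hb ?_ i j k
  have : U 0 0 1 = (U 0 1 0 * U 1 0 0)⁻¹ * (U 1 0 0 * U 0 1 0) := by decide +kernel
  rw [this]
  exact N.mul_mem (N.inv_mem (N.mul_mem hb ha)) (N.mul_mem ha hb)

theorem wl_mem {N : Subgroup X3} (h1 : n1 ∈ N) (h2 : n2 ∈ N) (k : Fin 6) : wl k ∈ N := by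
  fin_cases k
  · exact N.one_mem
  · exact h1
  · exact h2
  · change s12 ∈ N; rw [← n1_n2]; exact N.mul_mem h1 h2
  · change s21 ∈ N; rw [← n2_n1]; exact N.mul_mem h2 h1
  · change s0 ∈ N; rw [← n1_s21, ← n2_n1]; exact N.mul_mem h1 (N.mul_mem h2 h1)

theorem dg_mem {N : Subgroup X3} (h1 : z1 ∈ N) (h2 : z2 ∈ N) (k : Fin 4) : dg k ∈ N := by
  fin_cases k
  · exact N.one_mem
  · exact h1
  · exact h2
  · change z12 ∈ N; rw [← z1_z2]; exact N.mul_mem h1 h2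

theorem gen {N : Subgroup X3} (ha : U 1 0 0 ∈ N) (hb : U 0 1 0 ∈ N) (h1 : n1 ∈ N) (h2 : n2 ∈ N) (g : X3) : g ∈ N := by
  obtain ⟨i, j, k, i', j', k', w, d, rfl⟩ := bruhat' g
  refine N.mul_mem (N.mul_mem (U_mem' ha hb _ _ _) (wl_mem h1 h2 _)) (N.mul_mem (U_mem' ha hb _ _ _) (dg_mem ?_ ?_ _))
  · rw [← n1_sq]; exact N.mul_mem h1 h1
  · rw [← n2_sq]; exact N.mul_mem h2 h2

/-- `SL₃(3)` is the normal closure of a root element. -/
theorem gen_normal {N : Subgroup X3} [hN : N.Normal] (ha : U 1 0 0 ∈ N) (g : X3) : g ∈ N := by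
  have hc : U 0 0 1 ∈ N := by
    rw [show U 0 0 1 = n2⁻¹ * U 1 0 0 * n2⁻¹⁻¹ by (refine of_decide_eq_true ?_; (try (rewrite [Cfsg.Agent.LsF.instSLMul_eq, Cfsg.Agent.LsF.instSLInv_eq, Cfsg.Agent.LsF.dSL_eq, Cfsg.Agent.LsF.zdecEq_eq, Cfsg.Agent.LsF.decide_eq])); decide +kernel)]
    exact hN.conj_mem _ ha _
  have hb : U 0 1 0 ∈ N := by
    rw [show U 0 1 0 = (n1 * z1) * U 0 0 1 * (n1 * z1)⁻¹ by decide +kernel]
    exact hN.conj_mem _ hc _
  refine gen ha hb ?_ ?_ g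
  · rw [show n1 = U 1 0 0 * (n1 * U 1 0 0 * n1⁻¹) * U 1 0 0 by decide +kernel]
    exact N.mul_mem (N.mul_mem ha (hN.conj_mem _ ha _)) ha
  · rw [show n2 = U 0 1 0 * (n2 * U 0 1 0 * n2⁻¹) * U 0 1 0 by decide +kernel]
    exact N.mul_mem (N.mul_mem hb (hN.conj_mem _ hb _)) hb

end Cfsg.Agent.H175.LD
end

-- part: H175/LD/Dim
section
/-!
# Dimensions of fixed spaces in representations of `SL₃(3)` (helper175)

`dims` : `n + 12 d = 5 w + 8 w₃`; `trivial_of_le` : representations of degree at most 9 are trivial;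
`cases` : in degree at most 12, `n = 10 + d`, `w = 2 + d`, `w₃ = d ≤ 2`.
-/

set_option autoImplicit false
set_option linter.unusedSectionVars false

namespace Cfsg.Agent.H175.LD

open Module

section

variable {F : Type*} [Field F] {V : Type*} [AddCommGroup V] [Module F V]
variable (ρ : X3 →* (V →ₗ[F] V))

theorem rmul (g h : X3) (x : V) : ρ (g * h) x = ρ g (ρ h x) := by rw [map_mul]; rfl

theorem rone (x : V) : ρ 1 x = x := by rw [map_one]; rfl

theorem rinv (g : X3) (x : V) : ρ g⁻¹ (ρ g x) = x := by rw [← rmul, inv_mul_cancel, rone]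

theorem rinv' (g : X3) (x : V) : ρ g (ρ g⁻¹ x) = x := by rw [← rmul, mul_inv_cancel, rone]

theorem rinj (g : X3) : Function.Injective (ρ g) := Function.LeftInverse.injective (rinv ρ g)

/-- fixed vectors of an element -/
abbrev Fr (g : X3) : Submodule F V := Fk (ρ g)

theorem mem_Fr {g : X3} {x : V} : x ∈ Fr ρ g ↔ ρ g x = x := Iff.rfl

/-- `A = U 1 0 0` etc. -/
abbrev Da : Submodule F V := Fr ρ (U 1 0 0)
abbrev Db : Submodule F V := Fr ρ (U 0 1 0)
abbrev Dc : Submodule F V := Fr ρ (U 0 0 1)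

/-- the fixed vectors of the Sylow subgroup -/
abbrev D0 : Submodule F V := Dc ρ ⊓ (Da ρ ⊓ Db ρ)

/-- the fixed vectors of `⟨ab, c⟩` -/
abbrev D3 : Submodule F V := Dc ρ ⊓ Fr ρ (U 1 1 1)

variable [FiniteDimensional F V]

theorem fin_le (k : X3) {Y Y' : Submodule F V} (h : ∀ y ∈ Y, ρ k y ∈ Y') : finrank F Y ≤ finrank F Y' :=
  LinearMap.finrank_le_finrank_of_injective (f := (ρ k).restrict h)
    (fun _ _ hxy => Subtype.ext (rinj ρ k (congrArg Subtype.val hxy)))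

theorem fr_conj {g h k : X3} (e : k * g = h * k) : finrank F (Fk (ρ g)) = finrank F (Fk (ρ h)) := by
  apply le_antisymm
  · apply fin_le ρ k
    intro y (hy : ρ g y = y)
    rw [mem_Fr, ← rmul, ← e, rmul, hy]
  · apply fin_le ρ k⁻¹
    intro y (hy : ρ h y = y)
    rw [mem_Fr, ← rmul]
    have : g * k⁻¹ = k⁻¹ * h := by rw [eq_inv_mul_iff_mul_eq, ← mul_assoc, e, mul_inv_cancel_right]
    rw [this, rmul, hy]

theorem cube {g : X3} (h : g * g * g = 1) (x : V) : ρ g (ρ g (ρ g x)) = x := by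
  rw [← rmul, ← rmul, h, rone]

theorem comm_of {g h : X3} (e : g * h = h * g) (x : V) : ρ g (ρ h x) = ρ h (ρ g x) := by
  rw [← rmul, e, rmul]

/-- a vector fixed by `c`: the elements of `U` commute on it -/
theorem comp_two {g h k : X3} (e : g * h = k) : (ρ g) ∘ₗ (ρ h) = ρ k := by
  rw [← e, map_mul]; rfl

theorem comp_three {g h k : X3} (e : g * (h * h) = k) : (ρ g) ∘ₗ (ρ h) ∘ₗ (ρ h) = ρ k := by
  rw [← e, map_mul, map_mul]; rfl

theorem Db_stable {y : V} (h : y ∈ Dc ρ ⊓ Da ρ) : ρ (U 0 1 0) y ∈ Dc ρ ⊓ Da ρ := by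
  obtain ⟨h1, h2⟩ := h
  replace h1 : ρ (U 0 0 1) y = y := h1
  replace h2 : ρ (U 1 0 0) y = y := h2
  refine ⟨?_, ?_⟩
  · change ρ (U 0 0 1) (ρ (U 0 1 0) y) = ρ (U 0 1 0) y
    rw [comm_of ρ (by decide +kernel), h1]
  · change ρ (U 1 0 0) (ρ (U 0 1 0) y) = ρ (U 0 1 0) y
    rw [← rmul, show U 1 0 0 * U 0 1 0 = U 0 1 0 * U 1 0 0 * U 0 0 1 by decide +kernel, rmul, rmul, h1, h2]

/-- **The dimension relation.** -/
theorem dims (h3 : (3 : F) ≠ 0) :
    finrank F V + 12 * finrank F (D0 ρ) = 5 * finrank F (Dc ρ ⊓ Da ρ : Submodule F V) + 8 * finrank F (D3 ρ) ∧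
    finrank F (D0 ρ) ≤ finrank F (Dc ρ ⊓ Da ρ : Submodule F V) ∧
    finrank F (Dc ρ ⊓ Da ρ : Submodule F V) = finrank F (Dc ρ ⊓ Db ρ : Submodule F V) ∧
    finrank F (D0 ρ) ≤ finrank F (D3 ρ) ∧
    finrank F (Dc ρ ⊓ Da ρ : Submodule F V) ≠ finrank F (D0 ρ) + 1 ∧ finrank F (D3 ρ) ≠ finrank F (D0 ρ) + 1 := by
  have e1 := four_rel h3 (R := ρ (U 0 0 1)) (S := ρ (U 1 0 0)) (comm_of ρ (by decide)) (cube ρ (by decide))
    (cube ρ (by decide))
  rw [comp_three ρ (k := U 2 0 1) (by decide), comp_two ρ (k := U 1 0 1) (by decide)] at e1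
  have e2 := four_rel h3 (R := ρ (U 0 0 1)) (S := ρ (U 0 1 0)) (comm_of ρ (by decide +kernel)) (cube ρ (by decide))
    (cube ρ (by decide))
  rw [comp_three ρ (k := U 0 2 1) (by decide +kernel), comp_two ρ (k := U 0 1 1) (by decide)] at e2
  have c1 := fr_conj ρ (g := U 0 0 1) (h := U 1 0 0) (k := n2) (by decide +kernel)
  have c2 := fr_conj ρ (g := U 0 0 1) (h := U 0 1 0) (k := n1 * z1) (by decide +kernel)
  have c3 := fr_conj ρ (g := U 0 0 1) (h := U 1 0 1) (k := U 0 2 0 * n2) (by decide +kernel)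
  have c4 := fr_conj ρ (g := U 0 0 1) (h := U 2 0 1) (k := U 0 1 0 * n2 * z1) (by decide +kernel)
  have c5 := fr_conj ρ (g := U 0 0 1) (h := U 0 1 1) (k := U 1 0 0 * n1 * z1) (by decide +kernel)
  have c6 := fr_conj ρ (g := U 0 0 1) (h := U 0 2 1) (k := U 2 0 0 * n1) (by decide +kernel)
  have e3 := four_rel_on h3 (Dc ρ) (R := ρ (U 1 0 0)) (S := ρ (U 0 1 0))
    (fun y (hy : ρ (U 0 0 1) y = y) => by rw [mem_Fr, comm_of ρ (by decide), hy])
    (fun y (hy : ρ (U 0 0 1) y = y) => by rw [mem_Fr, comm_of ρ (by decide +kernel), hy])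
    (fun y (hy : ρ (U 0 0 1) y = y) => by
      rw [← rmul, ← rmul, show U 1 0 0 * U 0 1 0 = U 0 1 0 * U 1 0 0 * U 0 0 1 by decide +kernel, rmul _ _ (U 0 0 1), hy])
    (fun y _ => cube ρ (by decide) y) (fun y _ => cube ρ (by decide) y)
  rw [comp_three ρ (k := U 1 2 2) (by decide +kernel), comp_two ρ (k := U 1 1 1) (by decide)] at e3
  -- the two regular subgroups are conjugate
  have c7 : finrank F (Dc ρ ⊓ Fr ρ (U 1 2 2) : Submodule F V) = finrank F (D3 ρ) := by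
    apply le_antisymm
    · apply fin_le ρ z1
      rintro y ⟨h1, h2⟩
      replace h1 : ρ (U 0 0 1) y = y := h1
      replace h2 : ρ (U 1 2 2) y = y := h2
      refine ⟨?_, ?_⟩
      · change ρ (U 0 0 1) (ρ z1 y) = ρ z1 y
        rw [← rmul, show U 0 0 1 * z1 = z1 * (U 0 0 1 * U 0 0 1) by decide +kernel, rmul, rmul, h1, h1]
      · change ρ (U 1 1 1) (ρ z1 y) = ρ z1 y
        rw [← rmul, show U 1 1 1 * z1 = z1 * U 1 2 2 by decide +kernel, rmul, h2]
    · apply fin_le ρ z1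
      rintro y ⟨h1, h2⟩
      replace h1 : ρ (U 0 0 1) y = y := h1
      replace h2 : ρ (U 1 1 1) y = y := h2
      refine ⟨?_, ?_⟩
      · change ρ (U 0 0 1) (ρ z1 y) = ρ z1 y
        rw [← rmul, show U 0 0 1 * z1 = z1 * (U 0 0 1 * U 0 0 1) by decide +kernel, rmul, rmul, h1, h1]
      · change ρ (U 1 2 2) (ρ z1 y) = ρ z1 y
        rw [← rmul, show U 1 2 2 * z1 = z1 * U 1 1 1 by decide +kernel, rmul, h2]
  have o1 := no_one_on h3 (Dc ρ ⊓ Da ρ) (T := ρ (U 0 1 0)) (H := ρ z1) (fun y hy => Db_stable ρ hy)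
    (fun y hy => by
      obtain ⟨h1, h2⟩ := hy
      replace h1 : ρ (U 0 0 1) y = y := h1
      replace h2 : ρ (U 1 0 0) y = y := h2
      refine ⟨?_, ?_⟩
      · change ρ (U 0 0 1) (ρ z1 y) = ρ z1 y
        rw [← rmul, show U 0 0 1 * z1 = z1 * (U 0 0 1 * U 0 0 1) by decide +kernel, rmul, rmul, h1, h1]
      · change ρ (U 1 0 0) (ρ z1 y) = ρ z1 y
        rw [comm_of ρ (by decide +kernel), h2])
    (fun y _ => cube ρ (by decide) y)
    (fun y _ => by rw [← rmul, ← rmul, show U 0 1 0 * z1 * U 0 1 0 = z1 by decide +kernel]) (rinj ρ _)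
  have o2 := no_one_on h3 (D3 ρ) (T := ρ (U 1 0 0)) (H := ρ z12)
    (fun y hy => by
      obtain ⟨h1, h2⟩ := hy
      replace h1 : ρ (U 0 0 1) y = y := h1
      replace h2 : ρ (U 1 1 1) y = y := h2
      refine ⟨?_, ?_⟩
      · change ρ (U 0 0 1) (ρ (U 1 0 0) y) = ρ (U 1 0 0) y
        rw [comm_of ρ (by decide), h1]
      · change ρ (U 1 1 1) (ρ (U 1 0 0) y) = ρ (U 1 0 0) y
        rw [← rmul, show U 1 1 1 * U 1 0 0 = U 1 0 0 * (U 1 1 1 * (U 0 0 1 * U 0 0 1)) by decide +kernel, rmul, rmul,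
          rmul, h1, h1, h2])
    (fun y hy => by
      obtain ⟨h1, h2⟩ := hy
      replace h1 : ρ (U 0 0 1) y = y := h1
      replace h2 : ρ (U 1 1 1) y = y := h2
      refine ⟨?_, ?_⟩
      · change ρ (U 0 0 1) (ρ z12 y) = ρ z12 y
        rw [comm_of ρ (by decide +kernel), h1]
      · change ρ (U 1 1 1) (ρ z12 y) = ρ z12 y
        rw [← rmul, show U 1 1 1 * z12 = z12 * (U 1 1 1 * (U 1 1 1 * U 0 0 1)) by decide +kernel, rmul, rmul, rmul,
          h1, h2, h2])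
    (fun y _ => cube ρ (by decide) y)
    (fun y _ => by rw [← rmul, ← rmul, show U 1 0 0 * z12 * U 1 0 0 = z12 by decide +kernel]) (rinj ρ _)
  have s1 : (Dc ρ ⊓ Da ρ ⊓ Fr ρ (U 0 1 0) : Submodule F V) = D0 ρ := by rw [inf_assoc]
  have s2 : (D3 ρ ⊓ Fr ρ (U 1 0 0) : Submodule F V) = D0 ρ := by
    ext y
    constructor
    · rintro ⟨⟨h1, h2⟩, h3⟩
      replace h2 : ρ (U 1 1 1) y = y := h2
      replace h3 : ρ (U 1 0 0) y = y := h3
      refine ⟨h1, h3, ?_⟩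
      change ρ (U 0 1 0) y = y
      apply rinj ρ (U 1 0 0)
      rw [← rmul, show U 1 0 0 * U 0 1 0 = U 1 1 1 by decide, h2, h3]
    · rintro ⟨h1, h2, h3⟩
      replace h3 : ρ (U 0 1 0) y = y := h3
      replace h2 : ρ (U 1 0 0) y = y := h2
      refine ⟨⟨h1, ?_⟩, h2⟩
      change ρ (U 1 1 1) y = y
      rw [show U 1 1 1 = U 1 0 0 * U 0 1 0 by decide, rmul, h3, h2]
  rw [s1] at o1
  rw [s2] at o2
  have l1 : finrank F (D0 ρ) ≤ finrank F (Dc ρ ⊓ Da ρ : Submodule F V) := by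
    rw [← s1]; exact Submodule.finrank_mono inf_le_left
  have l2 : finrank F (D0 ρ) ≤ finrank F (D3 ρ) := by
    rw [← s2]; exact Submodule.finrank_mono inf_le_left
  have e4 : finrank F (Dc ρ ⊓ Da ρ : Submodule F V) = finrank F (Dc ρ ⊓ Db ρ : Submodule F V) := by
    change finrank F V + 3 * finrank F (Dc ρ ⊓ Da ρ : Submodule F V) = _ at e1
    change finrank F V + 3 * finrank F (Dc ρ ⊓ Db ρ : Submodule F V) = _ at e2
    (clear * - c1 c2 c3 c4 c5 c6 e1 e2; omega)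
  refine ⟨?_, l1, e4, l2, o1, o2⟩
  change finrank F V + 3 * finrank F (Dc ρ ⊓ Da ρ : Submodule F V) = _ at e1
  change finrank F (Fk (ρ (U 0 0 1))) + 3 * finrank F (D0 ρ) = finrank F (Dc ρ ⊓ Da ρ : Submodule F V) +
    finrank F (Dc ρ ⊓ Db ρ : Submodule F V) + finrank F (D3 ρ) + finrank F (Dc ρ ⊓ Fr ρ (U 1 2 2) : Submodule F V) at e3
  rw [c7] at e3
  (clear * - e2 c1 c3 c4 e4 e1 e3; omega)

/-- If `a` acts trivially, everything does. -/
theorem trivial_of_a (h : ∀ x, ρ (U 1 0 0) x = x) (g : X3) (x : V) : ρ g x = x := by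
  have h1 : U 1 0 0 ∈ ρ.ker := by
    rw [MonoidHom.mem_ker]
    ext y
    exact h y
  have h2 := gen_normal h1 g
  rw [MonoidHom.mem_ker] at h2
  rw [h2]; rfl

/-- Representations of degree at most 9 are trivial. -/
theorem trivial_of_le (h3 : (3 : F) ≠ 0) (hn : finrank F V ≤ 9) (g : X3) (x : V) : ρ g x = x := by
  obtain ⟨h1, h2, h3, h4, h5, h6⟩ := dims ρ h3
  have h7 : finrank F (D0 ρ) = finrank F V := by (clear * - hn h1 h2 h4 h5 h6; omega)
  have h8 : D0 ρ = ⊤ := Submodule.eq_top_of_finrank_eq h7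
  refine trivial_of_a ρ (fun x => ?_) g x
  have h9 : x ∈ D0 ρ := by rw [h8]; trivial
  exact h9.2.1

/-- Non-trivial representations of degree at most 12. -/
theorem cases (h3 : (3 : F) ≠ 0) (hn : finrank F V ≤ 12) (hnt : ∃ g x, ρ g x ≠ x) :
    finrank F V = 10 + finrank F (D0 ρ) ∧ finrank F (Dc ρ ⊓ Da ρ : Submodule F V) = 2 + finrank F (D0 ρ) ∧
    D3 ρ = D0 ρ := by
  obtain ⟨h1, h2, h3, h4, h5, h6⟩ := dims ρ h3
  have h0 : finrank F (D0 ρ) ≠ finrank F V := by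
    intro h7
    have h8 : D0 ρ = ⊤ := Submodule.eq_top_of_finrank_eq h7
    obtain ⟨g, x, hx⟩ := hnt
    refine hx (trivial_of_a ρ (fun x => ?_) g x)
    have h9 : x ∈ D0 ρ := by rw [h8]; trivial
    exact h9.2.1
  have h7 : finrank F (D3 ρ) = finrank F (D0 ρ) := by (clear * - hn h1 h2 h4 h6; omega)
  refine ⟨by (clear * - hn h1 h2 h5 h0 h7; omega), by (clear * - hn h1 h2 h5 h0 h7; omega), ?_⟩
  symm
  apply Submodule.eq_of_le_of_finrank_eq _ h7.symm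
  rintro y ⟨e1, e2, e3⟩
  replace e3 : ρ (U 0 1 0) y = y := e3
  replace e2 : ρ (U 1 0 0) y = y := e2
  refine ⟨e1, ?_⟩
  change ρ (U 1 1 1) y = y
  rw [show U 1 1 1 = U 1 0 0 * U 0 1 0 by decide, rmul, e3, e2]

end

end Cfsg.Agent.H175.LD
end

-- part: H175/LD/Ind
section
/-!
# The Sylow 3-subgroup of `SL₃(3)` has fixed vectors (helper175)
-/

set_option autoImplicit false
set_option linter.unusedSectionVars false

namespace Cfsg.Agent.H175.LD

open Module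

section

variable {F : Type*} [Field F] {V : Type*} [AddCommGroup V] [Module F V] [FiniteDimensional F V]
variable (ρ : X3 →* (V →ₗ[F] V))

def n13 : X3 := ⟨!![0, 0, -1; 0, 1, 0; 1, 0, 0], by decide +kernel⟩

def lw (r : Fin 8) : X3 := ![1, U 0 1 0, (L 0 1 0)⁻¹ * U 0 1 0, L 0 1 0 * U 0 1 0, U 0 1 0 * L 0 1 0 * U 0 1 0,
  L 0 1 0 * (U 0 1 0)⁻¹, (U 0 1 0)⁻¹, (L 0 1 0)⁻¹ * (U 0 1 0)⁻¹] r

private noncomputable def _root_.Cfsg.Agent.LsF.f1516ea_0 : {f // @Cfsg.Agent.H175.LD.lw = f} := ⟨_, by first | (delta Cfsg.Agent.H175.LD.lw; rewrite [Cfsg.Agent.LsF.instSLMul_eq, Cfsg.Agent.LsF.instSLInv_eq, Cfsg.Agent.LsF.instSLOne_eq, Cfsg.Agent.LsF.vecCons_eq]; exact rfl) | exact rfl⟩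
theorem lw_spec : ∀ i j : ZMod 3, ¬ (i = 0 ∧ j = 0) → ∃ r, lw r * L 0 0 1 = L i 0 j * lw r := by
  (refine of_decide_eq_true ?_; (try (rewrite [Cfsg.Agent.LsF.f1516ea_0.2, Cfsg.Agent.LsF.instSLMul_eq, Cfsg.Agent.LsF.dSL_eq, Cfsg.Agent.LsF.zdecEq_eq, Cfsg.Agent.LsF.zFintype_eq, Cfsg.Agent.LsF.dForall_eq, Cfsg.Agent.LsF.dAnd_eq, Cfsg.Agent.LsF.dNot_eq, Cfsg.Agent.LsF.dExistsFin_eq, Cfsg.Agent.LsF.dAllP_eq, Cfsg.Agent.LsF.decide_eq])); decide +kernel)

/-- the projection onto the fixed space of `⟨a, c⟩` -/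
noncomputable def e1 : V →ₗ[F] V := av (ρ (U 1 0 0)) ∘ₗ av (ρ (U 0 0 1))

theorem e1_apply (x : V) : e1 ρ x = av (ρ (U 1 0 0)) (av (ρ (U 0 0 1)) x) := rfl

theorem av_conj {g h k : X3} (e : g * k = k * h) (x : V) : av (ρ g) (ρ k x) = ρ k (av (ρ h) x) := by
  have h1 : ∀ y, ρ g (ρ k y) = ρ k (ρ h y) := by
    intro y
    rw [← rmul, e, rmul]
  simp only [av_apply, map_smul, map_add, h1]

theorem av_comm {g k : X3} (e : g * k = k * g) (x : V) : av (ρ g) (ρ k x) = ρ k (av (ρ g) x) := av_conj ρ e x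

theorem av_fr {g : X3} (h : g * g * g = 1) (x : V) : ρ g (av (ρ g) x) = av (ρ g) x := fix_av (cube ρ h x)

/-- conjugation on a vector fixed by `c` -/
theorem av_comm' {g k c : X3} (e : g * k = k * (g * c)) (e' : g * c = c * g) {x : V} (hc : ρ c x = x) :
    av (ρ g) (ρ k x) = ρ k (av (ρ g) x) := by
  have h1 : ∀ y, ρ c y = y → ρ g (ρ k y) = ρ k (ρ g y) := by
    intro y hy
    rw [← rmul, e, rmul, rmul, hy]
  have h2 : ρ c (ρ g x) = ρ g x := by rw [← rmul, ← e', rmul, hc]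
  simp only [av_apply, map_smul, map_add]
  rw [h1 _ hc, h1 _ h2]

theorem e1_swap (x : V) : av (ρ (U 0 0 1)) (av (ρ (U 1 0 0)) x) = e1 ρ x := by
  rw [e1_apply]
  simp only [av_apply, map_smul, map_add]
  simp only [comm_of ρ (show U 1 0 0 * U 0 0 1 = U 0 0 1 * U 1 0 0 by decide)]
  module

theorem e1_mem (x : V) : e1 ρ x ∈ Dc ρ ⊓ Da ρ := by
  refine ⟨?_, ?_⟩
  · change ρ (U 0 0 1) (e1 ρ x) = e1 ρ x
    rw [← e1_swap]
    exact av_fr ρ (by decide) _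
  · change ρ (U 1 0 0) (e1 ρ x) = e1 ρ x
    exact av_fr ρ (by decide) _

theorem e1_fix (h3 : (3 : F) ≠ 0) {x : V} (hx : x ∈ Dc ρ ⊓ Da ρ) : e1 ρ x = x := by
  rw [e1_apply, av_fix h3 (show ρ (U 0 0 1) x = x from hx.1), av_fix h3 (show ρ (U 1 0 0) x = x from hx.2)]

/-- elements commuting with `e1` -/
def Lv : Subgroup X3 where
  carrier := {k | ∀ x, e1 ρ (ρ k x) = ρ k (e1 ρ x)}
  one_mem' := fun x => by rw [rone, rone]
  mul_mem' := fun {a b} ha hb x => by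
    rw [rmul, ha, hb, ← rmul]
  inv_mem' := fun {a} ha x => by
    apply rinj ρ a
    rw [← ha, rinv', rinv']

theorem b_mem_Lv : U 0 1 0 ∈ Lv ρ := by
  intro x
  rw [e1_apply, av_comm ρ (by decide +kernel), e1_apply, av_comm' ρ (c := U 0 0 1) (by decide +kernel) (by decide) (av_fr ρ (by decide) x)]

theorem b'_mem_Lv : L 0 1 0 ∈ Lv ρ := by
  intro x
  rw [← e1_swap, av_comm ρ (by decide +kernel), ← e1_swap, av_comm' ρ (c := U 1 0 0) (by decide +kernel) (by decide)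
    (av_fr ρ (by decide) x)]

theorem lw_mem (r : Fin 8) : lw r ∈ Lv ρ := by
  have h1 := b_mem_Lv ρ
  have h2 := b'_mem_Lv ρ
  have h3 := (Lv ρ).inv_mem h1
  have h4 := (Lv ρ).inv_mem h2
  fin_cases r
  · exact (Lv ρ).one_mem
  · exact h1
  · exact (Lv ρ).mul_mem h4 h1
  · exact (Lv ρ).mul_mem h2 h1
  · exact (Lv ρ).mul_mem ((Lv ρ).mul_mem h1 h2) h1
  · exact (Lv ρ).mul_mem h2 h3
  · exact h3
  · exact (Lv ρ).mul_mem h4 h3

theorem Lv_stable (h3 : (3 : F) ≠ 0) {k : X3} (hk : k ∈ Lv ρ) {x : V} (hx : x ∈ Dc ρ ⊓ Da ρ) : ρ k x ∈ Dc ρ ⊓ Da ρ := by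
  have h := hk x
  rw [e1_fix ρ h3 hx] at h
  rw [← h]
  exact e1_mem ρ _

/-- translates of the fixed space -/
theorem e1_c' (h3 : (3 : F) ≠ 0) (h0 : D0 ρ = ⊥) {x : V} (hx : x ∈ Dc ρ ⊓ Da ρ) : e1 ρ (ρ (L 0 0 1) x) = 0 := by
  have hc : ρ (U 0 0 1) x = x := hx.1
  have ha : ρ (U 1 0 0) x = x := hx.2
  have h1 : ρ (L 0 0 1) x = ρ (U 0 0 1) (ρ n13 x) := by
    rw [show L 0 0 1 = U 0 0 1 * n13 * U 0 0 1 by decide +kernel, rmul, rmul, hc]
  have h2 : ∀ y, e1 ρ (ρ (U 0 0 1) y) = e1 ρ y := by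
    intro y
    rw [e1_apply, e1_apply, av_comm ρ rfl, av_fr ρ (by decide)]
  rw [h1, h2, e1_apply, av_conj ρ (h := L 0 0 2) (by decide +kernel), av_conj ρ (h := L 0 2 0) (by decide +kernel)]
  have h4 : av (ρ (L 0 2 0)) (av (ρ (L 0 0 2)) x) = av (ρ (L 0 0 2)) (av (ρ (L 0 2 0)) x) := by
    simp only [av_apply, map_smul, map_add]
    simp only [comm_of ρ (show L 0 2 0 * L 0 0 2 = L 0 0 2 * L 0 2 0 by decide +kernel)]
    module
  have h5 : av (ρ (L 0 2 0)) x = 0 := by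
    set y := av (ρ (L 0 2 0)) x with hy
    have e1 : ρ (L 0 2 0) y = y := av_fr ρ (by decide) x
    have e2 : ρ (U 1 0 0) y = y := by
      rw [hy]
      simp only [av_apply, map_smul, map_add, comm_of ρ (show U 1 0 0 * L 0 2 0 = L 0 2 0 * U 1 0 0 by decide +kernel), ha]
    have e3 : ρ (U 0 0 1) y = y := by
      have h6 : ∀ z, ρ (U 0 0 1) z = z → ρ (U 1 0 0) z = z → ρ (U 0 0 1) (ρ (L 0 2 0) z) = ρ (L 0 2 0) z := by
        intro z hz1 hz2
        rw [← rmul, show U 0 0 1 * L 0 2 0 = L 0 2 0 * (U 0 0 1 * (U 1 0 0 * U 1 0 0)) by decide +kernel, rmul, rmul, rmul, hz2,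
          hz2, hz1]
      have h7 : ρ (U 1 0 0) (ρ (L 0 2 0) x) = ρ (L 0 2 0) x := by rw [comm_of ρ (by decide +kernel), ha]
      rw [hy, av_apply, map_smul, map_add, map_add, h6 _ (h6 _ hc ha) h7, h6 _ hc ha, hc]
    have h8 : ρ n2 y ∈ D0 ρ := by
      refine ⟨?_, ?_, ?_⟩
      · change ρ (U 0 0 1) (ρ n2 y) = ρ n2 y
        rw [← rmul, show U 0 0 1 * n2 = n2 * (U 1 0 0 * U 1 0 0) by decide +kernel, rmul, rmul, e2, e2]
      · change ρ (U 1 0 0) (ρ n2 y) = ρ n2 y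
        rw [← rmul, show U 1 0 0 * n2 = n2 * U 0 0 1 by decide +kernel, rmul, e3]
      · change ρ (U 0 1 0) (ρ n2 y) = ρ n2 y
        rw [← rmul, show U 0 1 0 * n2 = n2 * L 0 2 0 by decide +kernel, rmul, e1]
    rw [h0, Submodule.mem_bot] at h8
    exact rinj ρ n2 (by rw [h8, map_zero])
  rw [h4, h5, map_zero, map_zero]

theorem e1_L (h3 : (3 : F) ≠ 0) (h0 : D0 ρ = ⊥) {i j : ZMod 3} (hij : ¬ (i = 0 ∧ j = 0)) {x : V}
    (hx : x ∈ Dc ρ ⊓ Da ρ) : e1 ρ (ρ (L i 0 j) x) = 0 := by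
  obtain ⟨r, hr⟩ := lw_spec i j hij
  have h1 : L i 0 j = lw r * L 0 0 1 * (lw r)⁻¹ := by rw [hr, mul_inv_cancel_right]
  rw [h1, rmul, rmul, lw_mem ρ r, e1_c' ρ h3 h0 (Lv_stable ρ h3 ((Lv ρ).inv_mem (lw_mem ρ r)) hx), map_zero]

/-- **The Sylow 3-subgroup has a fixed vector.** -/
theorem D0_ne_bot (h3 : (3 : F) ≠ 0) (hn : finrank F V ≤ 12) (hnt : ∃ g x, ρ g x ≠ x) : D0 ρ ≠ ⊥ := by
  intro h0
  obtain ⟨h1, h2, -⟩ := cases ρ h3 hn hnt
  rw [h0, finrank_bot] at h1 h2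
  let Ψ : (ZMod 3 × ZMod 3 → (Dc ρ ⊓ Da ρ : Submodule F V)) →ₗ[F] V :=
    ∑ p : ZMod 3 × ZMod 3, (ρ (L p.1 0 p.2)) ∘ₗ (Submodule.subtype _) ∘ₗ (LinearMap.proj p)
  have hΨ : ∀ f, Ψ f = ∑ p : ZMod 3 × ZMod 3, ρ (L p.1 0 p.2) (f p : V) := by
    intro f
    rw [LinearMap.sum_apply]
    rfl
  have hinj : Function.Injective Ψ := by
    rw [← LinearMap.ker_eq_bot, LinearMap.ker_eq_bot']
    intro f hf
    funext q
    apply Subtype.ext
    have h4 : e1 ρ (ρ (L (-q.1) 0 (-q.2)) (Ψ f)) = f q := by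
      rw [hΨ, map_sum, map_sum, Finset.sum_eq_single q]
      · rw [← rmul, L_mul, neg_add_cancel, neg_add_cancel, L_zero, rone, e1_fix ρ h3 (f q).2]
      · intro p _ hp
        rw [← rmul, L_mul]
        apply e1_L ρ h3 h0 _ (f p).2
        rintro ⟨h5, h6⟩
        apply hp
        ext
        · exact (neg_add_eq_zero.1 h5).symm
        · exact (neg_add_eq_zero.1 h6).symm
      · intro h; exact absurd (Finset.mem_univ _) h
    rw [← h4, hf, map_zero, map_zero]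
    rfl
  have h5 := LinearMap.finrank_le_finrank_of_injective hinj
  rw [Module.finrank_pi_fintype, Finset.sum_const, Finset.card_univ, h2, h1] at h5
  have h6 : Fintype.card (ZMod 3 × ZMod 3) = 9 := by decide
  rw [h6] at h5
  simp at h5

end

end Cfsg.Agent.H175.LD
end

-- part: H175/LD/Hecke
section
/-!
# The Hecke operators on `V^B` for `SL₃(3)` (helper175)
-/

set_option autoImplicit false
set_option linter.unusedSectionVars false

namespace Cfsg.Agent.H175.LD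

open Module

section

variable {F : Type*} [Field F] {V : Type*} [AddCommGroup V] [Module F V] [FiniteDimensional F V]
variable (ρ : X3 →* (V →ₗ[F] V))

theorem r2 {g h k : X3} (e : g * h = k) (x : V) : ρ g (ρ h x) = ρ k x := by rw [← rmul, e]

theorem av_sq {g : X3} (h : g * g * g = 1) (x : V) : av (ρ (g * g)) x = av (ρ g) x := by
  have h1 : ρ g (ρ g (ρ g x)) = x := cube ρ h x
  rw [av_apply, av_apply]
  congr 1
  simp only [rmul]
  rw [h1]
  abel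

/-- projection onto `D0` -/
noncomputable def e0 : V →ₗ[F] V := av (ρ (U 1 0 0)) ∘ₗ av (ρ (U 0 1 0)) ∘ₗ av (ρ (U 0 0 1))

theorem e0_apply (x : V) : e0 ρ x = av (ρ (U 1 0 0)) (av (ρ (U 0 1 0)) (av (ρ (U 0 0 1)) x)) := rfl

theorem e0_fix (h3 : (3 : F) ≠ 0) {x : V} (hx : x ∈ D0 ρ) : e0 ρ x = x := by
  rw [e0_apply, av_fix h3 (show ρ (U 0 0 1) x = x from hx.1), av_fix h3 (show ρ (U 0 1 0) x = x from hx.2.2),
    av_fix h3 (show ρ (U 1 0 0) x = x from hx.2.1)]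

theorem av_b_fix_c {x : V} (hc : ρ (U 0 0 1) x = x) : ρ (U 0 0 1) (av (ρ (U 0 1 0)) x) = av (ρ (U 0 1 0)) x := by
  simp only [av_apply, map_smul, map_add, comm_of ρ (show U 0 0 1 * U 0 1 0 = U 0 1 0 * U 0 0 1 by decide +kernel), hc]

theorem av_a_fix_c {x : V} (hc : ρ (U 0 0 1) x = x) : ρ (U 0 0 1) (av (ρ (U 1 0 0)) x) = av (ρ (U 1 0 0)) x := by
  simp only [av_apply, map_smul, map_add, comm_of ρ (show U 0 0 1 * U 1 0 0 = U 1 0 0 * U 0 0 1 by decide), hc]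

/-- `a`, `b` commute on the vectors fixed by `c` -/
theorem ab_comm {x : V} (hc : ρ (U 0 0 1) x = x) : ρ (U 1 0 0) (ρ (U 0 1 0) x) = ρ (U 0 1 0) (ρ (U 1 0 0) x) := by
  rw [← rmul, show U 1 0 0 * U 0 1 0 = U 0 1 0 * U 1 0 0 * U 0 0 1 by decide +kernel, rmul, rmul, hc]

theorem av_ab {x : V} (hc : ρ (U 0 0 1) x = x) :
    av (ρ (U 1 0 0)) (av (ρ (U 0 1 0)) x) = av (ρ (U 0 1 0)) (av (ρ (U 1 0 0)) x) := by
  have h1 : ρ (U 0 0 1) (ρ (U 0 1 0) x) = ρ (U 0 1 0) x := by rw [comm_of ρ (by decide +kernel), hc]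
  have h2 : ρ (U 0 0 1) (ρ (U 1 0 0) x) = ρ (U 1 0 0) x := by rw [comm_of ρ (by decide), hc]
  have h3 : ρ (U 0 0 1) (ρ (U 0 1 0) (ρ (U 1 0 0) x)) = ρ (U 0 1 0) (ρ (U 1 0 0) x) := by
    rw [comm_of ρ (by decide +kernel), h2]
  have h4 : ρ (U 0 0 1) (ρ (U 0 1 0) (ρ (U 0 1 0) x)) = ρ (U 0 1 0) (ρ (U 0 1 0) x) := by
    rw [comm_of ρ (by decide +kernel), h1]
  simp only [av_apply, map_smul, map_add, ab_comm ρ hc, ab_comm ρ h1, ab_comm ρ h2, ab_comm ρ h3]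
  module

theorem e0_mem (x : V) : e0 ρ x ∈ D0 ρ := by
  have hc := av_fr ρ (g := U 0 0 1) (by decide) x
  refine ⟨?_, ?_, ?_⟩
  · exact av_a_fix_c ρ (av_b_fix_c ρ hc)
  · exact av_fr ρ (by decide) _
  · change ρ (U 0 1 0) (e0 ρ x) = e0 ρ x
    rw [e0_apply, av_ab ρ hc]
    exact av_fr ρ (by decide) _

theorem e0_c (x : V) : e0 ρ (ρ (U 0 0 1) x) = e0 ρ x := by
  rw [e0_apply, e0_apply, av_comm ρ rfl, av_fr ρ (by decide)]

theorem e0_b (x : V) : e0 ρ (ρ (U 0 1 0) x) = e0 ρ x := by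
  rw [e0_apply, e0_apply, av_comm ρ (by decide +kernel), av_comm ρ rfl, av_fr ρ (by decide)]

theorem e0_a (x : V) : e0 ρ (ρ (U 1 0 0) x) = e0 ρ x := by
  have hc := av_fr ρ (g := U 0 0 1) (by decide) x
  rw [e0_apply, e0_apply, av_comm ρ (g := U 0 0 1) (k := U 1 0 0) (by decide),
    av_comm' ρ (g := U 0 1 0) (k := U 1 0 0) (c := U 0 0 2) (by decide +kernel) (by decide +kernel) ?_, av_comm ρ rfl,
    av_fr ρ (by decide)]
  rw [show U 0 0 2 = U 0 0 1 * U 0 0 1 by decide, rmul, hc, hc]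

theorem e0_U (i j k : ZMod 3) (x : V) : e0 ρ (ρ (U i j k) x) = e0 ρ x := by
  have key : ∀ (g : X3), (∀ y, e0 ρ (ρ g y) = e0 ρ y) → ∀ (m : ℕ) y, e0 ρ (ρ (g ^ m) y) = e0 ρ y := by
    intro g hg m
    induction m with
    | zero => intro y; rw [pow_zero, rone]
    | succ m ih => intro y; rw [pow_succ, rmul, ih, hg]
  rw [U_pow, rmul, rmul, key _ (e0_a ρ), key _ (e0_b ρ), key _ (e0_c ρ)]

theorem e0_av {g : X3} (h3 : (3 : F) ≠ 0) (h : ∀ y, e0 ρ (ρ g y) = e0 ρ y) (x : V) : e0 ρ (av (ρ g) x) = e0 ρ x := by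
  rw [av_apply, map_smul, map_add, map_add, h, h, h]
  have : e0 ρ x + e0 ρ x + e0 ρ x = (3 : F) • e0 ρ x := by module
  rw [this, smul_smul, inv_mul_cancel₀ h3, one_smul]

/-- torus elements commute with `e0` -/
theorem e0_z1 (x : V) : e0 ρ (ρ z1 x) = ρ z1 (e0 ρ x) := by
  rw [e0_apply, e0_apply, av_conj ρ (g := U 0 0 1) (h := U 0 0 1 * U 0 0 1) (by decide +kernel), av_sq ρ (by decide),
    av_conj ρ (g := U 0 1 0) (h := U 0 1 0 * U 0 1 0) (by decide +kernel), av_sq ρ (by decide), av_comm ρ (by decide +kernel)]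

theorem e0_z2 (x : V) : e0 ρ (ρ z2 x) = ρ z2 (e0 ρ x) := by
  rw [e0_apply, e0_apply, av_conj ρ (g := U 0 0 1) (h := U 0 0 1 * U 0 0 1) (by decide +kernel), av_sq ρ (by decide),
    av_comm ρ (by decide +kernel), av_conj ρ (g := U 1 0 0) (h := U 1 0 0 * U 1 0 0) (by decide +kernel), av_sq ρ (by decide)]

theorem z1_D0 {x : V} (hx : x ∈ D0 ρ) (h3 : (3 : F) ≠ 0) : ρ z1 x ∈ D0 ρ := by
  rw [← e0_fix ρ h3 hx, ← e0_z1]; exact e0_mem ρ _

theorem z2_D0 {x : V} (hx : x ∈ D0 ρ) (h3 : (3 : F) ≠ 0) : ρ z2 x ∈ D0 ρ := by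
  rw [← e0_fix ρ h3 hx, ← e0_z2]; exact e0_mem ρ _

/-- `e0` on vectors fixed by `a` -/
theorem e0_n1_e0 (h3 : (3 : F) ≠ 0) {x : V} (hx : ρ (U 1 0 0) x = x) : e0 ρ (ρ n1 (e0 ρ x)) = e0 ρ (ρ n1 x) := by
  have hc := av_fr ρ (g := U 0 0 1) (by decide) x
  have h1 : e0 ρ x = av (ρ (U 0 1 0)) (av (ρ (U 0 0 1)) x) := by
    have h2 : av (ρ (U 1 0 0)) (av (ρ (U 0 0 1)) x) = av (ρ (U 0 0 1)) x := by
      change e1 ρ x = _
      rw [← e1_swap, av_fix h3 hx]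
    rw [e0_apply, av_ab ρ hc, h2]
  have h4 : ρ n1 (av (ρ (U 0 1 0)) (av (ρ (U 0 0 1)) x)) = av (ρ (U 0 0 1)) (av (ρ (U 0 2 0)) (ρ n1 x)) := by
    rw [av_conj ρ (g := U 0 2 0) (k := n1) (h := U 0 0 1) (by decide +kernel),
      av_conj ρ (g := U 0 0 1) (k := n1) (h := U 0 1 0) (by decide +kernel)]
  rw [h1, h4, e0_av ρ h3 (e0_U ρ 0 0 1), e0_av ρ h3 (e0_U ρ 0 2 0)]

/-- `e0` on vectors fixed by `b` -/
theorem e0_n2_e0 (h3 : (3 : F) ≠ 0) {x : V} (hx : ρ (U 0 1 0) x = x) : e0 ρ (ρ n2 (e0 ρ x)) = e0 ρ (ρ n2 x) := by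
  have h1 : e0 ρ x = av (ρ (U 1 0 0)) (av (ρ (U 0 0 1)) x) := by
    have h2 : av (ρ (U 0 1 0)) (av (ρ (U 0 0 1)) x) = av (ρ (U 0 0 1)) x := by
      apply av_fix h3
      simp only [av_apply, map_smul, map_add, comm_of ρ (show U 0 1 0 * U 0 0 1 = U 0 0 1 * U 0 1 0 by decide +kernel), hx]
    rw [e0_apply, h2]
  have h4 : ρ n2 (av (ρ (U 1 0 0)) (av (ρ (U 0 0 1)) x)) = av (ρ (U 0 0 2)) (av (ρ (U 1 0 0)) (ρ n2 x)) := by
    rw [av_conj ρ (g := U 1 0 0) (k := n2) (h := U 0 0 1) (by decide +kernel),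
      av_conj ρ (g := U 0 0 2) (k := n2) (h := U 1 0 0) (by decide +kernel)]
  rw [h1, h4, e0_av ρ h3 (e0_U ρ 0 0 2), e0_av ρ h3 (e0_U ρ 1 0 0)]

/-- `e0 (n₁ v) ≠ 0` for an eigenvector `v` of `z₁` -/
theorem e0_n1_ne (h3 : (3 : F) ≠ 0) {v : V} (hv : v ∈ D0 ρ) {η : F} (hz : ρ z1 v = η • v) (h : e0 ρ (ρ n1 v) = 0) :
    v = 0 := by
  have ha : ρ (U 1 0 0) v = v := hv.2.1
  have hb : ρ (U 0 1 0) v = v := hv.2.2
  have hc : ρ (U 0 0 1) v = v := hv.1
  have h1 : e0 ρ (ρ n1 v) = av (ρ (U 1 0 0)) (ρ n1 v) := by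
    rw [e0_apply, av_conj ρ (g := U 0 0 1) (k := n1) (h := U 0 1 0) (by decide +kernel), av_fix h3 hb,
      av_conj ρ (g := U 0 1 0) (k := n1) (h := U 0 0 2) (by decide +kernel), av_fix h3 (T := ρ (U 0 0 2))]
    rw [show U 0 0 2 = U 0 0 1 * U 0 0 1 by decide, rmul, hc, hc]
  rw [h1, av_apply] at h
  have h2 : ρ n1 v + ρ (U 1 0 0) (ρ n1 v) + ρ (U 1 0 0) (ρ (U 1 0 0) (ρ n1 v)) = 0 :=
    (smul_eq_zero.1 h).resolve_left (inv_ne_zero h3)
  have h4 := congrArg (fun y => e0 ρ (ρ n1⁻¹ y)) h2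
  simp only [map_add, map_zero] at h4
  have q1 : ρ n1⁻¹ (ρ n1 v) = v := rinv ρ _ _
  have q2 : ρ n1⁻¹ (ρ (U 1 0 0) (ρ n1 v)) = ρ (U 2 0 0) (ρ n1 v) := by
    rw [← rmul, ← rmul, show n1⁻¹ * U 1 0 0 * n1 = U 2 0 0 * n1 * (U 1 0 0 * U 1 0 0) by decide +kernel, rmul, rmul, rmul, ha, ha]
  have q3 : ρ n1⁻¹ (ρ (U 1 0 0) (ρ (U 1 0 0) (ρ n1 v))) = η • ρ (U 1 0 0) (ρ n1 v) := by
    rw [← rmul, ← rmul, ← rmul, show n1⁻¹ * U 1 0 0 * U 1 0 0 * n1 = U 1 0 0 * n1 * (z1 * U 1 0 0) by decide +kernel, rmul, rmul,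
      rmul, ha, hz, map_smul, map_smul]
  rw [q1, q2, q3, map_smul, e0_U, e0_U, h1, av_apply, h, smul_zero, add_zero, add_zero, e0_fix ρ h3 hv] at h4
  exact h4

/-- `e0 (n₂ v) ≠ 0` for an eigenvector `v` of `z₂` -/
theorem e0_n2_ne (h3 : (3 : F) ≠ 0) {v : V} (hv : v ∈ D0 ρ) {η : F} (hz : ρ z2 v = η • v) (h : e0 ρ (ρ n2 v) = 0) :
    v = 0 := by
  have ha : ρ (U 1 0 0) v = v := hv.2.1
  have hb : ρ (U 0 1 0) v = v := hv.2.2
  have hc : ρ (U 0 0 1) v = v := hv.1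
  have hc2 : ρ (U 0 0 1) (ρ n2 v) = ρ n2 v := by
    rw [← rmul, show U 0 0 1 * n2 = n2 * (U 1 0 0 * U 1 0 0) by decide +kernel, rmul, rmul, ha, ha]
  have ha2 : ρ (U 1 0 0) (ρ n2 v) = ρ n2 v := by
    rw [← rmul, show U 1 0 0 * n2 = n2 * U 0 0 1 by decide +kernel, rmul, hc]
  have h1 : e0 ρ (ρ n2 v) = av (ρ (U 0 1 0)) (ρ n2 v) := by
    rw [e0_apply, av_fix h3 hc2, av_ab ρ hc2, av_fix h3 ha2]
  rw [h1, av_apply] at h
  have h2 : ρ n2 v + ρ (U 0 1 0) (ρ n2 v) + ρ (U 0 1 0) (ρ (U 0 1 0) (ρ n2 v)) = 0 :=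
    (smul_eq_zero.1 h).resolve_left (inv_ne_zero h3)
  have h4 := congrArg (fun y => e0 ρ (ρ n2⁻¹ y)) h2
  simp only [map_add, map_zero] at h4
  have q1 : ρ n2⁻¹ (ρ n2 v) = v := rinv ρ _ _
  have q2 : ρ n2⁻¹ (ρ (U 0 1 0) (ρ n2 v)) = ρ (U 0 2 0) (ρ n2 v) := by
    rw [← rmul, ← rmul, show n2⁻¹ * U 0 1 0 * n2 = U 0 2 0 * n2 * (U 0 1 0 * U 0 1 0) by decide +kernel, rmul, rmul, rmul, hb, hb]
  have q3 : ρ n2⁻¹ (ρ (U 0 1 0) (ρ (U 0 1 0) (ρ n2 v))) = η • ρ (U 0 1 0) (ρ n2 v) := by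
    rw [← rmul, ← rmul, ← rmul, show n2⁻¹ * U 0 1 0 * U 0 1 0 * n2 = U 0 1 0 * n2 * (z2 * U 0 1 0) by decide +kernel, rmul, rmul,
      rmul, hb, hz, map_smul, map_smul]
  rw [q1, q2, q3, map_smul, e0_U, e0_U, h1, av_apply, h, smul_zero, add_zero, add_zero, e0_fix ρ h3 hv] at h4
  exact h4

/-- eigenvectors of the torus -/
structure Eg (η₁ η₂ : F) (v : V) : Prop where
  mem : v ∈ D0 ρ
  ne : v ≠ 0
  e₁ : ρ z1 v = η₁ • v
  e₂ : ρ z2 v = η₂ • v

variable {ρ}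

theorem Eg.t1 (h3 : (3 : F) ≠ 0) {η₁ η₂ : F} {v : V} (h : Eg ρ η₁ η₂ v) : Eg ρ η₁ (η₁ * η₂) (e0 ρ (ρ n1 v)) := by
  refine ⟨e0_mem ρ _, fun h0 => h.ne (e0_n1_ne ρ h3 h.mem h.e₁ h0), ?_, ?_⟩
  · rw [← e0_z1, comm_of ρ (by decide +kernel), h.e₁, map_smul, map_smul]
  · rw [← e0_z2, ← rmul, show z2 * n1 = n1 * (z1 * z2) by decide +kernel, rmul, rmul, h.e₂, map_smul, h.e₁, smul_smul, map_smul,
      map_smul, mul_comm]

theorem Eg.t2 (h3 : (3 : F) ≠ 0) {η₁ η₂ : F} {v : V} (h : Eg ρ η₁ η₂ v) : Eg ρ (η₁ * η₂) η₂ (e0 ρ (ρ n2 v)) := by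
  refine ⟨e0_mem ρ _, fun h0 => h.ne (e0_n2_ne ρ h3 h.mem h.e₂ h0), ?_, ?_⟩
  · rw [← e0_z1, ← rmul, show z1 * n2 = n2 * (z1 * z2) by decide +kernel, rmul, rmul, h.e₂, map_smul, h.e₁, smul_smul, map_smul,
      map_smul, mul_comm]
  · rw [← e0_z2, comm_of ρ (by decide +kernel), h.e₂, map_smul, map_smul]

variable (ρ)

theorem exists_eg (h3 : (3 : F) ≠ 0) (hne : D0 ρ ≠ ⊥) : ∃ η₁ η₂ : F, (η₁ = 1 ∨ η₁ = -1) ∧ (η₂ = 1 ∨ η₂ = -1) ∧
    ∃ v, Eg ρ η₁ η₂ v := by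
  obtain ⟨v, hv, hv0⟩ := (Submodule.ne_bot_iff _).1 hne
  obtain ⟨η₁, h1, v₁, m1, n1, k1⟩ : ∃ η₁ : F, (η₁ = 1 ∨ η₁ = -1) ∧ ∃ v₁ ∈ D0 ρ, v₁ ≠ 0 ∧ ρ z1 v₁ = η₁ • v₁ := by
    by_cases h : v + ρ z1 v = 0
    · refine ⟨-1, Or.inr rfl, v, hv, hv0, ?_⟩
      rw [neg_smul, one_smul]
      exact (neg_eq_of_add_eq_zero_right h).symm
    · refine ⟨1, Or.inl rfl, _, (D0 ρ).add_mem hv (z1_D0 ρ hv h3), h, ?_⟩
      rw [map_add, r2 ρ z1_sq, rone, one_smul, add_comm]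
  obtain ⟨η₂, h2, v₂, m2, n2, k2, k3⟩ : ∃ η₂ : F, (η₂ = 1 ∨ η₂ = -1) ∧ ∃ v₂ ∈ D0 ρ, v₂ ≠ 0 ∧ ρ z1 v₂ = η₁ • v₂ ∧
      ρ z2 v₂ = η₂ • v₂ := by
    by_cases h : v₁ + ρ z2 v₁ = 0
    · refine ⟨-1, Or.inr rfl, v₁, m1, n1, k1, ?_⟩
      rw [neg_smul, one_smul]
      exact (neg_eq_of_add_eq_zero_right h).symm
    · refine ⟨1, Or.inl rfl, _, (D0 ρ).add_mem m1 (z2_D0 ρ m1 h3), h, ?_, ?_⟩
      · rw [map_add, comm_of ρ (show z1 * z2 = z2 * z1 by decide +kernel), k1, map_smul, smul_add]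
      · rw [map_add, r2 ρ z2_sq, rone, one_smul, add_comm]
  exact ⟨η₁, η₂, h1, h2, v₂, m2, n2, k2, k3⟩

/-- **A vector fixed by the Borel subgroup.** -/
theorem exists_B (h3 : (3 : F) ≠ 0) (hne : D0 ρ ≠ ⊥) (hd : finrank F (D0 ρ) ≤ 2) : ∃ v, Eg ρ 1 1 v := by
  obtain ⟨η₁, η₂, h1, h2, v, hv⟩ := exists_eg ρ h3 hne
  by_cases h11 : (-1 : F) = 1
  · rw [h11, or_self] at h1 h2
    subst h1; subst h2
    exact ⟨v, hv⟩
  by_cases hc : η₁ = 1 ∧ η₂ = 1
  · rw [hc.1, hc.2] at hv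
    exact ⟨v, hv⟩
  exfalso
  -- all non-trivial characters occur
  have key : ∃ x y z, Eg ρ (-1) 1 x ∧ Eg ρ (-1) (-1) y ∧ Eg ρ 1 (-1) z := by
    rcases h1 with h1 | h1 <;> rcases h2 with h2 | h2
    · exact absurd ⟨h1, h2⟩ hc
    · subst h1; subst h2
      have y := hv.t2 h3
      rw [one_mul] at y
      have x := y.t1 h3
      rw [neg_mul_neg, one_mul] at x
      exact ⟨_, _, _, x, y, hv⟩
    · subst h1; subst h2
      have y := hv.t1 h3
      rw [mul_one] at y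
      have z := y.t2 h3
      rw [neg_mul_neg, one_mul] at z
      exact ⟨_, _, _, hv, y, z⟩
    · subst h1; subst h2
      have x := hv.t1 h3
      have z := hv.t2 h3
      rw [neg_mul_neg, one_mul] at x z
      exact ⟨_, _, _, x, hv, z⟩
  obtain ⟨x, y, z, hx, hy, hz⟩ := key
  have h2' : (2 : F) ≠ 0 := by
    intro h
    apply h11
    linear_combination -h
  have hli : LinearIndependent F ![(⟨x, hx.mem⟩ : D0 ρ), ⟨y, hy.mem⟩, ⟨z, hz.mem⟩] := by
    rw [Fintype.linearIndependent_iff]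
    intro g hg
    rw [Fin.sum_univ_three] at hg
    have h4 : g 0 • x + g 1 • y + g 2 • z = 0 := congrArg Subtype.val hg
    have h5 := congrArg (ρ z1) h4
    have h6 := congrArg (ρ z2) h4
    rw [map_add, map_add, map_smul, map_smul, map_smul, hx.e₁, hy.e₁, hz.e₁, map_zero] at h5
    rw [map_add, map_add, map_smul, map_smul, map_smul, hx.e₂, hy.e₂, hz.e₂, map_zero] at h6
    have h7 : ((2 : F) * g 2) • z = 0 := by linear_combination (norm := module) h4 + h5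
    have h8 : ((2 : F) * g 0) • x = 0 := by linear_combination (norm := module) h4 + h6
    have g2 : g 2 = 0 := ((smul_eq_zero.1 h7).resolve_right hz.ne |> mul_eq_zero.1).resolve_left h2'
    have g0 : g 0 = 0 := ((smul_eq_zero.1 h8).resolve_right hx.ne |> mul_eq_zero.1).resolve_left h2'
    rw [g2, g0, zero_smul, zero_smul, zero_add, add_zero] at h4
    have g1 : g 1 = 0 := (smul_eq_zero.1 h4).resolve_right hy.ne
    intro i
    fin_cases i
    · exact g0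
    · exact g1
    · exact g2
  have h9 := hli.fintype_card_le_finrank
  rw [Fintype.card_fin] at h9
  omega

end

end Cfsg.Agent.H175.LD
end

-- part: H175/LD/Hecke2
section
/-!
# Matrix coefficients of `B`-fixed vectors for `SL₃(3)` (helper175)
-/

set_option autoImplicit false
set_option linter.unusedSectionVars false

namespace Cfsg.Agent.H175.LD

open Module

section

variable {F : Type*} [Field F] {V : Type*} [AddCommGroup V] [Module F V] [FiniteDimensional F V]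
variable (ρ : X3 →* (V →ₗ[F] V))

/-- fixed by the Borel subgroup -/
structure FB (v : V) : Prop where
  a : ρ (U 1 0 0) v = v
  b : ρ (U 0 1 0) v = v
  c : ρ (U 0 0 1) v = v
  z₁ : ρ z1 v = v
  z₂ : ρ z2 v = v

variable {ρ}

theorem FB.mem {v : V} (h : FB ρ v) : v ∈ D0 ρ := ⟨h.c, h.a, h.b⟩

theorem Eg.fb {v : V} (h : Eg ρ 1 1 v) : FB ρ v :=
  ⟨h.mem.2.1, h.mem.2.2, h.mem.1, by rw [h.e₁, one_smul], by rw [h.e₂, one_smul]⟩

/-- all elements of the Borel subgroup fix `v` -/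
theorem FB.up {v : V} (h : FB ρ v) {g : X3} (hg : Up g) : ρ g v = v := by
  obtain ⟨i, j, k, d, rfl⟩ := up_eq hg
  let S : Subgroup X3 :=
    { carrier := {g | ρ g v = v}
      one_mem' := rone ρ v
      mul_mem' := fun {x y} hx hy => by
        change ρ (x * y) v = v
        rw [rmul, show ρ y v = v from hy, show ρ x v = v from hx]
      inv_mem' := fun {x} hx => by
        change ρ x⁻¹ v = v
        apply rinj ρ x
        rw [rinv', show ρ x v = v from hx] }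
  have h1 : U i j k * dg d ∈ S := S.mul_mem (U_mem h.a h.b h.c _ _ _) (dg_mem h.z₁ h.z₂ _)
  exact h1

instance decUp : DecidablePred Up := fun b => inferInstanceAs (Decidable (b.1 1 0 = 0 ∧ b.1 2 0 = 0 ∧ b.1 2 1 = 0))

theorem FB.coset {v : V} (h : FB ρ v) {g p q : X3} (e : Up (q⁻¹ * (g * p))) : ρ g (ρ p v) = ρ q v := by
  rw [← rmul, show g * p = q * (q⁻¹ * (g * p)) by group, rmul, h.up e]

theorem FB.n1_add {v : V} (h : FB ρ v) : FB ρ (ρ 1 v + ρ n1 v + ρ (U 1 0 0 * n1) v + ρ (U 2 0 0 * n1) v) ∧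
    ρ n1 (ρ 1 v + ρ n1 v + ρ (U 1 0 0 * n1) v + ρ (U 2 0 0 * n1) v) =
      ρ 1 v + ρ n1 v + ρ (U 1 0 0 * n1) v + ρ (U 2 0 0 * n1) v := by
  refine ⟨⟨?_, ?_, ?_, ?_, ?_⟩, ?_⟩
  · rw [map_add, map_add, map_add, h.coset (q := 1) (by decide +kernel), h.coset (q := U 1 0 0 * n1) (by decide +kernel),
      h.coset (q := U 2 0 0 * n1) (by decide +kernel), h.coset (q := n1) (by decide +kernel)]
    abel
  · rw [map_add, map_add, map_add, h.coset (q := 1) (by decide +kernel), h.coset (q := n1) (by decide +kernel),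
      h.coset (q := U 1 0 0 * n1) (by decide +kernel), h.coset (q := U 2 0 0 * n1) (by decide +kernel)]
  · rw [map_add, map_add, map_add, h.coset (q := 1) (by decide +kernel), h.coset (q := n1) (by decide +kernel),
      h.coset (q := U 1 0 0 * n1) (by decide +kernel), h.coset (q := U 2 0 0 * n1) (by decide +kernel)]
  · rw [map_add, map_add, map_add, h.coset (q := 1) (by decide +kernel), h.coset (q := n1) (by decide +kernel),
      h.coset (q := U 1 0 0 * n1) (by decide +kernel), h.coset (q := U 2 0 0 * n1) (by decide +kernel)]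
  · rw [map_add, map_add, map_add, h.coset (q := 1) (by decide +kernel), h.coset (q := n1) (by decide +kernel),
      h.coset (q := U 2 0 0 * n1) (by decide +kernel), h.coset (q := U 1 0 0 * n1) (by decide +kernel)]
    abel
  · rw [map_add, map_add, map_add, h.coset (q := n1) (by decide +kernel), h.coset (q := 1) (by decide +kernel),
      h.coset (q := U 2 0 0 * n1) (by decide +kernel), h.coset (q := U 1 0 0 * n1) (by decide +kernel)]
    abel

theorem FB.n2_add {v : V} (h : FB ρ v) : FB ρ (ρ 1 v + ρ n2 v + ρ (U 0 1 0 * n2) v + ρ (U 0 2 0 * n2) v) ∧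
    ρ n2 (ρ 1 v + ρ n2 v + ρ (U 0 1 0 * n2) v + ρ (U 0 2 0 * n2) v) =
      ρ 1 v + ρ n2 v + ρ (U 0 1 0 * n2) v + ρ (U 0 2 0 * n2) v := by
  refine ⟨⟨?_, ?_, ?_, ?_, ?_⟩, ?_⟩
  · rw [map_add, map_add, map_add, h.coset (q := 1) (by decide +kernel), h.coset (q := n2) (by decide +kernel),
      h.coset (q := U 0 1 0 * n2) (by decide +kernel), h.coset (q := U 0 2 0 * n2) (by decide +kernel)]
  · rw [map_add, map_add, map_add, h.coset (q := 1) (by decide +kernel), h.coset (q := U 0 1 0 * n2) (by decide +kernel),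
      h.coset (q := U 0 2 0 * n2) (by decide +kernel), h.coset (q := n2) (by decide +kernel)]
    abel
  · rw [map_add, map_add, map_add, h.coset (q := 1) (by decide +kernel), h.coset (q := n2) (by decide +kernel),
      h.coset (q := U 0 1 0 * n2) (by decide +kernel), h.coset (q := U 0 2 0 * n2) (by decide +kernel)]
  · rw [map_add, map_add, map_add, h.coset (q := 1) (by decide +kernel), h.coset (q := n2) (by decide +kernel),
      h.coset (q := U 0 2 0 * n2) (by decide +kernel), h.coset (q := U 0 1 0 * n2) (by decide +kernel)]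
    abel
  · rw [map_add, map_add, map_add, h.coset (q := 1) (by decide +kernel), h.coset (q := n2) (by decide +kernel),
      h.coset (q := U 0 1 0 * n2) (by decide +kernel), h.coset (q := U 0 2 0 * n2) (by decide +kernel)]
  · rw [map_add, map_add, map_add, h.coset (q := n2) (by decide +kernel), h.coset (q := 1) (by decide +kernel),
      h.coset (q := U 0 2 0 * n2) (by decide +kernel), h.coset (q := U 0 1 0 * n2) (by decide +kernel)]
    abel

/-- no vectors fixed by a maximal parabolic subgroup -/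
structure NoP (ρ : X3 →* (V →ₗ[F] V)) : Prop where
  h₁ : ∀ v, FB ρ v → ρ n1 v = v → v = 0
  h₂ : ∀ v, FB ρ v → ρ n2 v = v → v = 0

theorem FB.t1 (h3 : (3 : F) ≠ 0) (hP : NoP ρ) {v : V} (h : FB ρ v) : e0 ρ (ρ n1 v) = (-(3 : F)⁻¹) • v := by
  have h1 := congrArg (e0 ρ) (hP.h₁ _ h.n1_add.1 h.n1_add.2)
  rw [map_add, map_add, map_add, rmul, rmul, e0_U, e0_U, rone, map_zero, e0_fix ρ h3 h.mem] at h1
  have h2 : (3 : F) • e0 ρ (ρ n1 v) = -v := by linear_combination (norm := module) h1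
  rw [neg_smul, ← smul_neg, ← h2, smul_smul, inv_mul_cancel₀ h3, one_smul]

theorem FB.t2 (h3 : (3 : F) ≠ 0) (hP : NoP ρ) {v : V} (h : FB ρ v) : e0 ρ (ρ n2 v) = (-(3 : F)⁻¹) • v := by
  have h1 := congrArg (e0 ρ) (hP.h₂ _ h.n2_add.1 h.n2_add.2)
  rw [map_add, map_add, map_add, rmul, rmul, e0_U, e0_U, rone, map_zero, e0_fix ρ h3 h.mem] at h1
  have h2 : (3 : F) • e0 ρ (ρ n2 v) = -v := by linear_combination (norm := module) h1
  rw [neg_smul, ← smul_neg, ← h2, smul_smul, inv_mul_cancel₀ h3, one_smul]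

/-- length -/
def ln (k : Fin 6) : ℕ := ![0, 1, 1, 2, 2, 3] k

/-- **The matrix coefficient.** -/
theorem FB.coef (h3 : (3 : F) ≠ 0) (hP : NoP ρ) {v : V} (h : FB ρ v) (k : Fin 6) :
    e0 ρ (ρ (wl k) v) = (-(3 : F)⁻¹) ^ ln k • v := by
  have t1 := h.t1 h3 hP
  have t2 := h.t2 h3 hP
  have h12 : e0 ρ (ρ s12 v) = ((-(3 : F)⁻¹) ^ 2) • v := by
    rw [← n1_n2, rmul, ← e0_n1_e0 ρ h3 (h.coset (q := n2) (by decide +kernel)), t2, map_smul, map_smul, t1, smul_smul, pow_two]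
  have h21 : e0 ρ (ρ s21 v) = ((-(3 : F)⁻¹) ^ 2) • v := by
    rw [← n2_n1, rmul, ← e0_n2_e0 ρ h3 (h.coset (q := n1) (by decide +kernel)), t1, map_smul, map_smul, t2, smul_smul, pow_two]
  fin_cases k
  · change e0 ρ (ρ 1 v) = (-(3 : F)⁻¹) ^ 0 • v
    rw [rone, pow_zero, one_smul, e0_fix ρ h3 h.mem]
  · change e0 ρ (ρ n1 v) = (-(3 : F)⁻¹) ^ 1 • v
    rw [pow_one, t1]
  · change e0 ρ (ρ n2 v) = (-(3 : F)⁻¹) ^ 1 • v
    rw [pow_one, t2]
  · exact h12
  · exact h21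
  · change e0 ρ (ρ s0 v) = (-(3 : F)⁻¹) ^ 3 • v
    rw [← n1_s21, rmul, ← e0_n1_e0 ρ h3 (h.coset (q := s21) (by decide +kernel)), h21, map_smul, map_smul, t1, smul_smul,
      ← pow_succ]

theorem FB.coef' (h3 : (3 : F) ≠ 0) (hP : NoP ρ) {v : V} (h : FB ρ v) {g : X3} {i j k : ZMod 3} {w : Fin 6}
    (e : Up ((U i j k * wl w)⁻¹ * g)) : e0 ρ (ρ g v) = (-(3 : F)⁻¹) ^ ln w • v := by
  rw [show g = U i j k * wl w * ((U i j k * wl w)⁻¹ * g) by group, rmul, h.up e, rmul, e0_U, h.coef h3 hP]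

/-- all values of the coefficient -/
theorem FB.coef_all (h3 : (3 : F) ≠ 0) (hP : NoP ρ) {v : V} (h : FB ρ v) (g : X3) :
    ∃ m : ℕ, e0 ρ (ρ g v) = (-(3 : F)⁻¹) ^ m • v := by
  obtain ⟨i, j, k, w, b, hb, rfl⟩ := bruhat g
  refine ⟨ln w, h.coef' h3 hP (i := i) (j := j) (k := k) ?_⟩
  rwa [inv_mul_cancel_left]

end

end Cfsg.Agent.H175.LD
end

-- part: H175/LD/Eleven
section
/-!
# Representations of `SL₃(3)` without vectors fixed by a maximal parabolic subgroup (helper175)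
-/

set_option autoImplicit false
set_option linter.unusedSectionVars false

namespace Cfsg.Agent.H175.LD

open Module

section

variable {F : Type*} [Field F] {V : Type*} [AddCommGroup V] [Module F V] [FiniteDimensional F V]
variable {ρ : X3 →* (V →ₗ[F] V)}

/-- irreducible -/
def Irr (ρ : X3 →* (V →ₗ[F] V)) : Prop := ∀ W : Submodule F V, (∀ g, ∀ x ∈ W, ρ g x ∈ W) → W = ⊥ ∨ W = ⊤

theorem Irr.span (hI : Irr ρ) {v : V} (hv : v ≠ 0) : Submodule.span F (Set.range fun g => ρ g v) = ⊤ := by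
  refine (hI _ ?_).resolve_left ?_
  · intro g x hx
    induction hx using Submodule.span_induction with
    | mem y hy =>
      obtain ⟨h, rfl⟩ := hy
      exact Submodule.subset_span ⟨g * h, rmul ρ _ _ _⟩
    | zero => rw [map_zero]; exact Submodule.zero_mem _
    | add a b _ _ ha hb => rw [map_add]; exact Submodule.add_mem _ ha hb
    | smul c a _ ha => rw [map_smul]; exact Submodule.smul_mem _ _ ha
  · intro h
    apply hv
    rw [← Submodule.mem_bot F, ← h]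
    exact Submodule.subset_span ⟨1, rone ρ v⟩

/-- `V^U` is a line -/
theorem D0_le (h3 : (3 : F) ≠ 0) (hI : Irr ρ) (hP : NoP ρ) {v : V} (h : FB ρ v) (hv : v ≠ 0) :
    D0 ρ ≤ Submodule.span F {v} := by
  have h1 : ∀ x, e0 ρ x ∈ Submodule.span F {v} := by
    intro x
    have hx : x ∈ Submodule.span F (Set.range fun g => ρ g v) := by rw [hI.span hv]; trivial
    induction hx using Submodule.span_induction with
    | mem y hy =>
      obtain ⟨g, rfl⟩ := hy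
      obtain ⟨m, hm⟩ := h.coef_all h3 hP g
      change e0 ρ (ρ g v) ∈ _
      rw [hm]
      exact Submodule.smul_mem _ _ (Submodule.mem_span_singleton_self v)
    | zero => rw [map_zero]; exact Submodule.zero_mem _
    | add a b _ _ ha hb => rw [map_add]; exact Submodule.add_mem _ ha hb
    | smul c a _ ha => rw [map_smul]; exact Submodule.smul_mem _ _ ha
  intro x hx
  rw [← e0_fix ρ h3 hx]
  exact h1 x

theorem D0_one (h3 : (3 : F) ≠ 0) (hI : Irr ρ) (hP : NoP ρ) {v : V} (h : FB ρ v) (hv : v ≠ 0) :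
    finrank F (D0 ρ) = 1 := by
  have h1 : D0 ρ = Submodule.span F {v} := le_antisymm (D0_le h3 hI hP h hv) (by
    rw [Submodule.span_singleton_le_iff_mem]; exact h.mem)
  rw [h1, finrank_span_singleton hv]

/-- the relation coming from `V^⟨ab,c⟩ = V^U` -/
theorem rel13 (h3 : (3 : F) ≠ 0) (hP : NoP ρ) (hD : D3 ρ = D0 ρ) {v : V} (h : FB ρ v) (hv : v ≠ 0) : (104 : F) = 0 := by
  set τ : F := -(3 : F)⁻¹ with hτ
  have hm : ∀ x, av (ρ (U 1 1 1)) (av (ρ (U 0 0 1)) x) = e0 ρ x := by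
    intro x
    have h1 : av (ρ (U 1 1 1)) (av (ρ (U 0 0 1)) x) ∈ D3 ρ := by
      refine ⟨?_, av_fr ρ (by decide) _⟩
      have hc := av_fr ρ (g := U 0 0 1) (by decide) x
      change ρ (U 0 0 1) (av (ρ (U 1 1 1)) (av (ρ (U 0 0 1)) x)) = av (ρ (U 1 1 1)) (av (ρ (U 0 0 1)) x)
      simp only [av_apply (ρ (U 1 1 1)), map_smul, map_add,
        comm_of ρ (show U 0 0 1 * U 1 1 1 = U 1 1 1 * U 0 0 1 by decide +kernel), hc]
    rw [hD] at h1
    rw [← e0_fix ρ h3 h1, e0_av ρ h3 (e0_U ρ 1 1 1), e0_av ρ h3 (e0_U ρ 0 0 1)]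
  have h1 : e0 ρ (ρ s0 (av (ρ (U 1 1 1)) (av (ρ (U 0 0 1)) (ρ s0 v)))) = τ ^ 6 • v := by
    rw [hm, show ρ s0 v = ρ (wl 5) v from rfl, h.coef h3 hP, map_smul, map_smul, show ρ s0 v = ρ (wl 5) v from rfl,
      h.coef h3 hP, smul_smul, ← pow_add]
    rfl
  have q00 : e0 ρ (ρ (s0 * s0) v) = τ ^ 0 • v := h.coef' h3 hP (i := 0) (j := 0) (k := 0) (w := 0) (by decide +kernel)
  have q01 : e0 ρ (ρ (s0 * (U 0 0 1 * s0)) v) = τ ^ 3 • v :=
    h.coef' h3 hP (i := 0) (j := 0) (k := 1) (w := 5) (by decide +kernel)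
  have q02 : e0 ρ (ρ (s0 * (U 0 0 1 * (U 0 0 1 * s0))) v) = τ ^ 3 • v :=
    h.coef' h3 hP (i := 0) (j := 0) (k := 2) (w := 5) (by decide +kernel)
  have q10 : e0 ρ (ρ (s0 * (U 1 1 1 * s0)) v) = τ ^ 2 • v :=
    h.coef' h3 hP (i := 0) (j := 2) (k := 1) (w := 4) (by decide +kernel)
  have q11 : e0 ρ (ρ (s0 * (U 1 1 1 * (U 0 0 1 * s0))) v) = τ ^ 3 • v :=
    h.coef' h3 hP (i := 1) (j := 1) (k := 2) (w := 5) (by decide +kernel)
  have q12 : e0 ρ (ρ (s0 * (U 1 1 1 * (U 0 0 1 * (U 0 0 1 * s0)))) v) = τ ^ 2 • v :=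
    h.coef' h3 hP (i := 2) (j := 0) (k := 2) (w := 3) (by decide +kernel)
  have q20 : e0 ρ (ρ (s0 * (U 1 1 1 * (U 1 1 1 * s0))) v) = τ ^ 2 • v :=
    h.coef' h3 hP (i := 1) (j := 0) (k := 2) (w := 3) (by decide +kernel)
  have q21 : e0 ρ (ρ (s0 * (U 1 1 1 * (U 1 1 1 * (U 0 0 1 * s0)))) v) = τ ^ 2 • v :=
    h.coef' h3 hP (i := 0) (j := 1) (k := 1) (w := 4) (by decide +kernel)
  have q22 : e0 ρ (ρ (s0 * (U 1 1 1 * (U 1 1 1 * (U 0 0 1 * (U 0 0 1 * s0))))) v) = τ ^ 3 • v :=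
    h.coef' h3 hP (i := 2) (j := 2) (k := 2) (w := 5) (by decide +kernel)
  simp only [av_apply, map_smul, map_add, ← rmul] at h1
  rw [q00, q01, q02, q10, q11, q12, q20, q21, q22] at h1
  have h4 : ((3 : F)⁻¹ * (3 : F)⁻¹ * (1 + 4 * τ ^ 2 + 4 * τ ^ 3) - τ ^ 6) • v = 0 := by
    linear_combination (norm := module) h1
  have h5 := (smul_eq_zero.1 h4).resolve_right hv
  have h6 : (3 : F) * τ = -1 := by rw [hτ]; field_simp
  have h7 : (3 : F)⁻¹ = -τ := by rw [hτ]; ring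
  rw [h7] at h5
  have h8 : τ ^ 2 * (81 * (1 + 4 * τ ^ 2 + 4 * τ ^ 3 - τ ^ 4)) = 0 := by linear_combination 81 * h5
  have hτ0 : τ ≠ 0 := by
    intro h0
    rw [h0, mul_zero] at h6
    exact one_ne_zero (neg_eq_zero.1 h6.symm)
  have h9 := (mul_eq_zero.1 h8).resolve_left (pow_ne_zero 2 hτ0)
  have t2 : 9 * τ ^ 2 = 1 := by linear_combination (3 * τ - 1) * h6
  have t3 : 27 * τ ^ 3 = -1 := by linear_combination 3 * τ * t2 + h6
  have t4 : 81 * τ ^ 4 = 1 := by linear_combination 3 * τ * t3 - h6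
  linear_combination h9 - 36 * t2 - 12 * t3 + t4

/-- characteristic two is impossible -/
theorem two_ne (h3 : (3 : F) ≠ 0) (hI : Irr ρ) (hP : NoP ρ) (hn : finrank F V ≠ 1) {v : V} (h : FB ρ v) (hv : v ≠ 0) :
    (2 : F) ≠ 0 := by
  intro h2
  have hτ : -(3 : F)⁻¹ = 1 := by
    have : (3 : F) = -1 := by linear_combination 2 * h2
    rw [this, inv_neg, inv_one, neg_neg]
  have h1 : ∀ g, e0 ρ (ρ g v) = v := by
    intro g
    obtain ⟨m, hm⟩ := h.coef_all h3 hP g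
    rw [hm, hτ, one_pow, one_smul]
  let N : Submodule F V := ⨅ g : X3, LinearMap.ker (e0 ρ ∘ₗ ρ g)
  have hN : ∀ x, x ∈ N ↔ ∀ g, e0 ρ (ρ g x) = 0 := by
    intro x
    simp only [N, Submodule.mem_iInf, LinearMap.mem_ker]
    rfl
  rcases hI N (by
    intro g x hx
    rw [hN] at hx ⊢
    intro k
    rw [← rmul]
    exact hx _) with h4 | h4
  · have h5 : ∀ g, ρ g v = v := by
      intro g
      have : ρ g v - v ∈ N := by
        rw [hN]
        intro k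
        rw [map_sub, map_sub, ← rmul, h1, h1, sub_self]
      rw [h4, Submodule.mem_bot, sub_eq_zero] at this
      exact this
    have h6 := hI.span hv
    have h7 : (Set.range fun g => ρ g v) = {v} := by
      ext x
      constructor
      · rintro ⟨g, rfl⟩; exact h5 g
      · rintro rfl; exact ⟨1, rone ρ _⟩
    rw [h7] at h6
    have h8 := finrank_span_singleton (K := F) hv
    rw [h6, finrank_top] at h8
    exact hn h8
  · have : v ∈ N := by rw [h4]; trivial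
    rw [hN] at this
    have h5 := this 1
    rw [h1] at h5
    exact hv h5

end

end Cfsg.Agent.H175.LD
end

-- part: H175/LD/Perm
section
/-!
# Points and lines of the projective plane of order 3 (helper175)

`P1s`, `P2s` : the stabilisers of a point, a line; index 13; `perm_case` : an irreducible representation with a vector
fixed by such a subgroup has degree at least 12, and in degree 12 it is the deleted permutation module.
-/

set_option autoImplicit false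
set_option linter.unusedSectionVars false

namespace Cfsg.Agent.H175.LD

open Module Matrix

def rp1 : Fin 13 → X3 := ![
  ⟨!![1, 0, 0; 0, 1, 0; 0, 0, 1], by decide +kernel⟩,
  ⟨!![0, 1, 0; -1, 0, 0; 0, 0, 1], by decide +kernel⟩,
  ⟨!![-1, 1, 0; -1, 0, 0; 0, 0, 1], by decide⟩,
  ⟨!![1, 1, 0; -1, 0, 0; 0, 0, 1], by decide⟩,
  ⟨!![0, 1, 0; 0, 0, 1; 1, 0, 0], by decide⟩,
  ⟨!![1, 1, 0; 0, 0, 1; 1, 0, 0], by decide⟩,
  ⟨!![-1, 1, 0; 0, 0, 1; 1, 0, 0], by decide⟩,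
  ⟨!![0, 1, 0; 1, 0, 1; 1, 0, 0], by decide⟩,
  ⟨!![1, 1, 0; 1, 0, 1; 1, 0, 0], by decide⟩,
  ⟨!![-1, 1, 0; 1, 0, 1; 1, 0, 0], by decide⟩,
  ⟨!![0, 1, 0; -1, 0, 1; 1, 0, 0], by decide⟩,
  ⟨!![1, 1, 0; -1, 0, 1; 1, 0, 0], by decide⟩,
  ⟨!![-1, 1, 0; -1, 0, 1; 1, 0, 0], by decide⟩]

def rp2 : Fin 13 → X3 := ![
  ⟨!![1, 0, 0; 0, 1, 0; 0, 0, 1], by decide +kernel⟩,
  ⟨!![1, 0, 0; 0, 0, 1; 0, -1, 0], by decide⟩,
  ⟨!![1, 0, 0; 0, -1, 1; 0, -1, 0], by decide⟩,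
  ⟨!![1, 0, 0; 0, 1, 1; 0, -1, 0], by decide⟩,
  ⟨!![0, 0, 1; -1, 0, 0; 0, -1, 0], by decide⟩,
  ⟨!![0, -1, 1; -1, 0, 0; 0, -1, 0], by decide⟩,
  ⟨!![0, 1, 1; -1, 0, 0; 0, -1, 0], by decide⟩,
  ⟨!![-1, 0, 1; -1, 0, 0; 0, -1, 0], by decide⟩,
  ⟨!![-1, -1, 1; -1, 0, 0; 0, -1, 0], by decide⟩,
  ⟨!![-1, 1, 1; -1, 0, 0; 0, -1, 0], by decide⟩,
  ⟨!![1, 0, 1; -1, 0, 0; 0, -1, 0], by decide⟩,
  ⟨!![1, -1, 1; -1, 0, 0; 0, -1, 0], by decide⟩,
  ⟨!![1, 1, 1; -1, 0, 0; 0, -1, 0], by decide⟩]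


/-- the stabiliser of a point -/
def P1s : Subgroup X3 where
  carrier := {g | g.1 1 0 = 0 ∧ g.1 2 0 = 0}
  one_mem' := by decide
  mul_mem' := by
    rintro g h ⟨g1, g2⟩ ⟨h1, h2⟩
    change (g.1 * h.1) 1 0 = 0 ∧ (g.1 * h.1) 2 0 = 0
    simp only [Matrix.mul_apply, Fin.sum_univ_three, g1, g2, h1, h2, _root_.Fin.isValue, _root_.MulZeroClass.zero_mul, _root_.MulZeroClass.mul_zero, _root_.add_zero, _root_.and_self]
  inv_mem' := by
    rintro g ⟨g1, g2⟩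
    change (adjugate g.1) 1 0 = 0 ∧ (adjugate g.1) 2 0 = 0
    rw [Matrix.adjugate_fin_three]
    simp only [g1, g2, _root_.Fin.isValue, _root_.MulZeroClass.zero_mul, _root_.neg_zero, _root_.MulZeroClass.mul_zero, _root_.add_zero, _root_.sub_zero, _root_.sub_self, _root_.Matrix.of_apply, _root_.Matrix.cons_val', _root_.Matrix.cons_val_zero, _root_.Matrix.cons_val_fin_one, _root_.Matrix.cons_val_one, _root_.Matrix.cons_val, _root_.and_self]

/-- the stabiliser of a line -/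
def P2s : Subgroup X3 where
  carrier := {g | g.1 2 0 = 0 ∧ g.1 2 1 = 0}
  one_mem' := by decide
  mul_mem' := by
    rintro g h ⟨g1, g2⟩ ⟨h1, h2⟩
    change (g.1 * h.1) 2 0 = 0 ∧ (g.1 * h.1) 2 1 = 0
    simp only [Matrix.mul_apply, Fin.sum_univ_three, g1, g2, h1, h2, _root_.Fin.isValue, _root_.MulZeroClass.zero_mul, _root_.add_zero, _root_.MulZeroClass.mul_zero, _root_.and_self]
  inv_mem' := by
    rintro g ⟨g1, g2⟩
    change (adjugate g.1) 2 0 = 0 ∧ (adjugate g.1) 2 1 = 0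
    rw [Matrix.adjugate_fin_three]
    simp only [g1, g2, _root_.Fin.isValue, _root_.MulZeroClass.mul_zero, _root_.sub_zero, _root_.add_zero, _root_.sub_self, _root_.neg_zero, _root_.Matrix.of_apply, _root_.Matrix.cons_val', _root_.Matrix.cons_val_zero, _root_.Matrix.cons_val_fin_one, _root_.Matrix.cons_val, _root_.Matrix.cons_val_one, _root_.and_self]

instance decP1s : DecidablePred (· ∈ P1s) := fun g => inferInstanceAs (Decidable (g.1 1 0 = 0 ∧ g.1 2 0 = 0))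

instance decP2s : DecidablePred (· ∈ P2s) := fun g => inferInstanceAs (Decidable (g.1 2 0 = 0 ∧ g.1 2 1 = 0))

theorem rp1_inj : ∀ r s, (rp1 r)⁻¹ * rp1 s ∈ P1s → r = s := by (refine of_decide_eq_true ?_; (try (delta Cfsg.Agent.H175.LD.decP1s Cfsg.Agent.H175.LD.decP1s._aux_1; rewrite [Cfsg.Agent.LsF.instSLMul_eq, Cfsg.Agent.LsF.instSLInv_eq, Cfsg.Agent.LsF.zdecEq_eq, Cfsg.Agent.LsF.dAnd_eq, Cfsg.Agent.LsF.dForallFin_eq, Cfsg.Agent.LsF.dAllP_eq, Cfsg.Agent.LsF.decide_eq])); decide +kernel)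

theorem rp2_inj : ∀ r s, (rp2 r)⁻¹ * rp2 s ∈ P2s → r = s := by (refine of_decide_eq_true ?_; (try (delta Cfsg.Agent.H175.LD.decP2s Cfsg.Agent.H175.LD.decP2s._aux_1; rewrite [Cfsg.Agent.LsF.instSLMul_eq, Cfsg.Agent.LsF.instSLInv_eq, Cfsg.Agent.LsF.zdecEq_eq, Cfsg.Agent.LsF.dAnd_eq, Cfsg.Agent.LsF.dForallFin_eq, Cfsg.Agent.LsF.dAllP_eq, Cfsg.Agent.LsF.decide_eq])); decide +kernel)

theorem rp1_col : ∀ x y z : ZMod 3, ¬ (x = 0 ∧ y = 0 ∧ z = 0) → ∃ r : Fin 13,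
    ((rp1 r)⁻¹.1 *ᵥ ![x, y, z]) 1 = 0 ∧ ((rp1 r)⁻¹.1 *ᵥ ![x, y, z]) 2 = 0 := by
  (set_option synthInstance.maxSize 100000 in exact Cfsg.Agent.Lib.Refl.of (by ((try (rewrite [Cfsg.Agent.LsF.instSLInv_eq, Cfsg.Agent.LsF.zcast_pat, Cfsg.Agent.LsF.vecCons_eq, Cfsg.Agent.LsF.zval_eq])); decide +kernel)))

theorem rp2_row : ∀ x y z : ZMod 3, ¬ (x = 0 ∧ y = 0 ∧ z = 0) → ∃ r : Fin 13,
    (![x, y, z] ᵥ* (rp2 r).1) 0 = 0 ∧ (![x, y, z] ᵥ* (rp2 r).1) 1 = 0 := by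
  (refine of_decide_eq_true ?_; (try (rewrite [Cfsg.Agent.LsF.vecMulF_pat, Cfsg.Agent.LsF.zadd_pat, Cfsg.Agent.LsF.zmul_pat, Cfsg.Agent.LsF.vecCons_eq, Cfsg.Agent.LsF.zdecEq_eq, Cfsg.Agent.LsF.zFintype_eq, Cfsg.Agent.LsF.dForall_eq, Cfsg.Agent.LsF.dAnd_eq, Cfsg.Agent.LsF.dNot_eq, Cfsg.Agent.LsF.dExistsFin_eq, Cfsg.Agent.LsF.dAllP_eq, Cfsg.Agent.LsF.decide_eq])); decide +kernel)

theorem index_P1 : P1s.index = 13 := by
  have h : Function.Bijective (fun r : Fin 13 => (QuotientGroup.mk (rp1 r) : X3 ⧸ P1s)) := by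
    refine ⟨fun r s hrs => rp1_inj r s (QuotientGroup.eq.1 hrs), fun q => ?_⟩
    induction q using QuotientGroup.induction_on with
    | H g =>
      have hc : ¬ (g.1 0 0 = 0 ∧ g.1 1 0 = 0 ∧ g.1 2 0 = 0) := by
        rintro ⟨h1, h2, h3⟩
        have := g.2
        rw [Matrix.det_fin_three, h1, h2, h3] at this
        simp only [_root_.Fin.isValue, _root_.MulZeroClass.zero_mul, _root_.sub_self, _root_.MulZeroClass.mul_zero, _root_.add_zero, _root_.zero_ne_one] at this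
      obtain ⟨r, h1, h2⟩ := rp1_col _ _ _ hc
      rw [mulVec_col] at h1 h2
      exact ⟨r, QuotientGroup.eq.2 ⟨h1, h2⟩⟩
  rw [Subgroup.index, ← Nat.card_eq_of_bijective _ h, Nat.card_eq_fintype_card, Fintype.card_fin]

theorem index_P2 : P2s.index = 13 := by
  have h : Function.Bijective (fun r : Fin 13 => (QuotientGroup.mk (rp2 r) : X3 ⧸ P2s)) := by
    refine ⟨fun r s hrs => rp2_inj r s (QuotientGroup.eq.1 hrs), fun q => ?_⟩
    induction q using QuotientGroup.induction_on with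
    | H g =>
      have hc : ¬ ((g⁻¹).1 2 0 = 0 ∧ (g⁻¹).1 2 1 = 0 ∧ (g⁻¹).1 2 2 = 0) := by
        rintro ⟨h1, h2, h3⟩
        have := (g⁻¹).2
        rw [Matrix.det_fin_three, h1, h2, h3] at this
        simp only [_root_.Fin.isValue, _root_.Matrix.SpecialLinearGroup.coe_inv, _root_.MulZeroClass.mul_zero, _root_.sub_self, _root_.add_zero, _root_.zero_ne_one] at this
      obtain ⟨r, h1, h2⟩ := rp2_row _ _ _ hc
      refine ⟨r, (QuotientGroup.eq.2 ?_).symm⟩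
      constructor
      · change ((g⁻¹).1 * (rp2 r).1) 2 0 = 0
        rw [← h1, Matrix.mul_apply, Matrix.vecMul, dotProduct]
        simp only [Fin.sum_univ_three, _root_.Fin.isValue, _root_.Matrix.SpecialLinearGroup.coe_inv, _root_.Nat.succ_eq_add_one, _root_.Nat.reduceAdd, _root_.Matrix.cons_val_zero, _root_.Matrix.cons_val_one, _root_.Matrix.cons_val]
      · change ((g⁻¹).1 * (rp2 r).1) 2 1 = 0
        rw [← h2, Matrix.mul_apply, Matrix.vecMul, dotProduct]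
        simp only [Fin.sum_univ_three, _root_.Fin.isValue, _root_.Matrix.SpecialLinearGroup.coe_inv, _root_.Nat.succ_eq_add_one, _root_.Nat.reduceAdd, _root_.Matrix.cons_val_zero, _root_.Matrix.cons_val_one, _root_.Matrix.cons_val]
  rw [Subgroup.index, ← Nat.card_eq_of_bijective _ h, Nat.card_eq_fintype_card, Fintype.card_fin]

section

variable {F : Type*} [Field F] {V : Type*} [AddCommGroup V] [Module F V] [FiniteDimensional F V]
variable {ρ : X3 →* (V →ₗ[F] V)}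

/-- the vectors indexed by the cosets -/
noncomputable def cv (ρ : X3 →* (V →ₗ[F] V)) (K : Subgroup X3) (v : V) (x : X3 ⧸ K) : V := ρ x.out v

theorem cv_smul {K : Subgroup X3} {v : V} (hv : ∀ k ∈ K, ρ k v = v) (g : X3) (x : X3 ⧸ K) :
    ρ g (cv ρ K v x) = cv ρ K v (g • x) := by
  have h1 : ((g • x).out)⁻¹ * (g * x.out) ∈ K := by
    rw [← QuotientGroup.eq, QuotientGroup.out_eq']
    have : (QuotientGroup.mk (g * x.out) : X3 ⧸ K) = g • (QuotientGroup.mk x.out : X3 ⧸ K) := rfl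
    rw [this, QuotientGroup.out_eq']
  unfold cv
  rw [← rmul, show g * x.out = (g • x).out * (((g • x).out)⁻¹ * (g * x.out)) by group, rmul, hv _ h1]

theorem cv_one {K : Subgroup X3} {v : V} (hv : ∀ k ∈ K, ρ k v = v) (g : X3) :
    cv ρ K v (QuotientGroup.mk g) = ρ g v := by
  have h1 : (QuotientGroup.mk g : X3 ⧸ K).out⁻¹ * g ∈ K := by
    rw [← QuotientGroup.eq, QuotientGroup.out_eq']
  unfold cv
  nth_rw 2 [show g = (QuotientGroup.mk g : X3 ⧸ K).out * ((QuotientGroup.mk g : X3 ⧸ K).out⁻¹ * g) by group]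
  rw [rmul, hv _ h1]

theorem span_cv (hI : Irr ρ) {K : Subgroup X3} {v : V} (hv0 : v ≠ 0) (hv : ∀ k ∈ K, ρ k v = v) :
    Submodule.span F (Set.range (cv ρ K v)) = ⊤ := by
  rw [eq_top_iff, ← hI.span hv0, Submodule.span_le]
  rintro _ ⟨g, rfl⟩
  exact Submodule.subset_span ⟨QuotientGroup.mk g, cv_one hv g⟩

/-- the permutation representation -/
def pr (F : Type*) [Field F] (K : Subgroup X3) : X3 →* ((X3 ⧸ K → F) →ₗ[F] (X3 ⧸ K → F)) where
  toFun g := LinearMap.funLeft F F (fun x => g⁻¹ • x)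
  map_one' := by
    ext f x
    simp [LinearMap.funLeft_apply]
  map_mul' g h := by
    ext f x
    simp only [LinearMap.funLeft_apply, mul_smul, _root_.mul_inv_rev, _root_.Module.End.mul_apply]

theorem pr_apply (K : Subgroup X3) (g : X3) (f : X3 ⧸ K → F) (x : X3 ⧸ K) : pr F K g f x = f (g⁻¹ • x) := rfl

theorem perm_case (h3 : (3 : F) ≠ 0) (hI : Irr ρ) (hn : 4 ≤ finrank F V) {K : Subgroup X3} (hK : K.index = 13) {v : V}
    (hv0 : v ≠ 0) (hv : ∀ k ∈ K, ρ k v = v) : 12 ≤ finrank F V ∧ (finrank F V ≤ 12 → ∑ᶠ x, cv ρ K v x = 0) := by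
  classical
  have hfi : Finite (X3 ⧸ K) := Nat.finite_of_card_ne_zero (by
    change K.index ≠ 0
    rw [hK]; norm_num)
  have : Fintype (X3 ⧸ K) := Fintype.ofFinite _
  have hcard : Fintype.card (X3 ⧸ K) = 13 := by
    rw [← Nat.card_eq_fintype_card]; exact hK
  let Φ : (X3 ⧸ K → F) →ₗ[F] V := Fintype.linearCombination F (cv ρ K v)
  have hΦ : ∀ f, Φ f = ∑ x, f x • cv ρ K v x := fun f => rfl
  have hsurj : LinearMap.range Φ = ⊤ := by
    rw [← span_cv hI hv0 hv]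
    exact Fintype.range_linearCombination F (cv ρ K v)
  have hdim := LinearMap.finrank_range_add_finrank_ker Φ
  rw [hsurj, finrank_top, Module.finrank_fintype_fun_eq_card, hcard] at hdim
  have hequi : ∀ g f, Φ (pr F K g f) = ρ g (Φ f) := by
    intro g f
    rw [hΦ, hΦ, map_sum, ← Equiv.sum_comp (MulAction.toPerm g)]
    refine Finset.sum_congr rfl fun x _ => ?_
    rw [pr_apply, MulAction.toPerm_apply, inv_smul_smul, map_smul, cv_smul hv]
  have hst : ∀ g, ∀ f ∈ LinearMap.ker Φ, pr F K g f ∈ LinearMap.ker Φ := by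
    intro g f hf
    rw [LinearMap.mem_ker] at hf ⊢
    rw [hequi, hf, map_zero]
  let κ : X3 →* (LinearMap.ker Φ →ₗ[F] LinearMap.ker Φ) :=
    { toFun := fun g => (pr F K g).restrict (hst g)
      map_one' := by
        ext f x
        rw [LinearMap.coe_restrict_apply, map_one]
        rfl
      map_mul' := fun g h => by
        ext f x
        rw [LinearMap.coe_restrict_apply, map_mul]
        rfl }
  have htriv : ∀ g, ∀ f ∈ LinearMap.ker Φ, pr F K g f = f := by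
    intro g f hf
    have h1 := trivial_of_le κ h3 (by omega) g ⟨f, hf⟩
    exact congrArg Subtype.val h1
  have hconst : LinearMap.ker Φ ≤ Submodule.span F {fun _ => (1 : F)} := by
    intro f hf
    rw [Submodule.mem_span_singleton]
    refine ⟨f (QuotientGroup.mk 1), ?_⟩
    funext x
    induction x using QuotientGroup.induction_on with
    | H g =>
      have h1 := congrFun (htriv g f hf) (QuotientGroup.mk g)
      rw [pr_apply] at h1
      have h2 : g⁻¹ • (QuotientGroup.mk g : X3 ⧸ K) = QuotientGroup.mk 1 := by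
        change (QuotientGroup.mk (g⁻¹ * g) : X3 ⧸ K) = _
        rw [inv_mul_cancel]
      rw [h2] at h1
      simp only [h1, _root_.Pi.smul_apply, _root_.smul_eq_mul, _root_.mul_one]
  have h1ne : (fun _ => (1 : F) : X3 ⧸ K → F) ≠ 0 := by
    intro h
    exact one_ne_zero (congrFun h (QuotientGroup.mk 1))
  have hle : finrank F (LinearMap.ker Φ) ≤ 1 := by
    rw [← finrank_span_singleton (K := F) h1ne]
    exact Submodule.finrank_mono hconst
  refine ⟨by omega, fun h12 => ?_⟩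
  have h1 : finrank F (LinearMap.ker Φ) = 1 := by omega
  have h2 : LinearMap.ker Φ = Submodule.span F {fun _ => (1 : F)} := by
    apply Submodule.eq_of_le_of_finrank_eq hconst
    rw [h1, finrank_span_singleton h1ne]
  have h4 : (fun _ => (1 : F)) ∈ LinearMap.ker Φ := by
    rw [h2]; exact Submodule.mem_span_singleton_self _
  rw [LinearMap.mem_ker, hΦ] at h4
  rw [finsum_eq_sum_of_fintype]
  simpa using h4

end

end Cfsg.Agent.H175.LD
end

-- part: H175/LD/Tr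
section
/-!
# The trace on a deleted permutation module (helper175)
-/

set_option autoImplicit false
set_option linter.unusedSectionVars false

namespace Cfsg.Agent.H175.LD

open Module

/-- `V` spanned by `dim V + 1` vectors with sum zero; `T` permutes them: the trace is the number of fixed points minus
one. -/
theorem trace_sys {F : Type*} [Field F] {V : Type*} [AddCommGroup V] [Module F V] [FiniteDimensional F V]
    {Q : Type*} [Fintype Q] [DecidableEq Q] {w : Q → V} (hspan : Submodule.span F (Set.range w) = ⊤)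
    (hcard : Fintype.card Q = finrank F V + 1) (hsum : ∑ x, w x = 0) {T : V →ₗ[F] V} {σ : Equiv.Perm Q}
    (hT : ∀ x, T (w x) = w (σ x)) :
    LinearMap.trace F V T = ((Finset.univ.filter fun x => σ x = x).card : F) - 1 := by
  classical
  obtain ⟨x0⟩ : Nonempty Q := by
    rw [← Fintype.card_pos_iff]; omega
  have hw0 : w x0 = -∑ x : {x // x ≠ x0}, w x := by
    have h1 := Fintype.sum_eq_add_sum_subtype_ne w x0
    rw [hsum] at h1
    exact (neg_eq_of_add_eq_zero_left h1.symm).symm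
  have hsp : ⊤ ≤ Submodule.span F (Set.range fun x : {x // x ≠ x0} => w x) := by
    rw [← hspan, Submodule.span_le]
    rintro _ ⟨x, rfl⟩
    by_cases hx : x = x0
    · subst hx
      rw [hw0]
      exact Submodule.neg_mem _ (Submodule.sum_mem _ fun y _ => Submodule.subset_span ⟨y, rfl⟩)
    · exact Submodule.subset_span ⟨⟨x, hx⟩, rfl⟩
  have hc : Fintype.card {x // x ≠ x0} = finrank F V := by
    rw [Fintype.card_subtype_compl, Fintype.card_subtype_eq, hcard, Nat.add_sub_cancel]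
  let b : Basis {x // x ≠ x0} F V := basisOfTopLeSpanOfCardEqFinrank _ hsp hc
  have hb : ∀ x, b x = w x := fun x => by
    rw [coe_basisOfTopLeSpanOfCardEqFinrank]
  have hrepr : ∀ (x : Q) (i : {x // x ≠ x0}), b.repr (w x) i = (if x = i then 1 else 0) - (if x = x0 then 1 else 0) := by
    intro x i
    by_cases hx : x = x0
    · subst hx
      rw [hw0, map_neg, map_sum, Finsupp.neg_apply, Finsupp.finsetSum_apply, if_neg (fun h => i.2 h.symm), if_pos rfl,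
        zero_sub]
      congr 1
      rw [Finset.sum_eq_single i]
      · rw [← hb, Basis.repr_self, Finsupp.single_eq_same]
      · intro j _ hj
        rw [← hb, Basis.repr_self, Finsupp.single_eq_of_ne hj.symm]
      · intro h; exact absurd (Finset.mem_univ _) h
    · rw [if_neg hx, sub_zero, ← hb ⟨x, hx⟩, Basis.repr_self]
      by_cases hi : x = i
      · rw [if_pos hi, show (⟨x, hx⟩ : {x // x ≠ x0}) = i from Subtype.ext hi, Finsupp.single_eq_same]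
      · rw [if_neg hi, Finsupp.single_eq_of_ne (fun h => hi (congrArg Subtype.val h).symm)]
  rw [LinearMap.trace_eq_matrix_trace F b, Matrix.trace]
  have h1 : ∀ i : {x // x ≠ x0}, (LinearMap.toMatrix b b T).diag i =
      (if σ i = i then 1 else 0) - (if σ i = x0 then 1 else 0) := by
    intro i
    rw [Matrix.diag_apply, LinearMap.toMatrix_apply, hb, hT, hrepr]
  rw [Finset.sum_congr rfl fun i _ => h1 i, Finset.sum_sub_distrib]
  have h2 := Fintype.sum_eq_add_sum_subtype_ne (fun x => if σ x = x then (1 : F) else 0) x0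
  have h3 := Fintype.sum_eq_add_sum_subtype_ne (fun x => if σ x = x0 then (1 : F) else 0) x0
  have h4 : ∑ x, (if σ x = x0 then (1 : F) else 0) = 1 := by
    rw [Finset.sum_eq_single (σ.symm x0)]
    · rw [Equiv.apply_symm_apply, if_pos rfl]
    · intro y _ hy
      rw [if_neg]
      intro h
      exact hy (by rw [← h, Equiv.symm_apply_apply])
    · intro h; exact absurd (Finset.mem_univ _) h
  have h5 : ∑ x, (if σ x = x then (1 : F) else 0) = ((Finset.univ.filter fun x => σ x = x).card : F) := by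
    rw [Finset.sum_boole]
  rw [h4] at h3
  rw [h5] at h2
  linear_combination h3 - h2

end Cfsg.Agent.H175.LD
end

-- part: H175/LD/Main33
section
/-!
# Irreducible representations of `SL₃(3)` of degree at most 12 in characteristic `≠ 3` (helper175)
-/

set_option autoImplicit false
set_option linter.unusedSectionVars false

namespace Cfsg.Agent.H175.LD

open Module Matrix

theorem wl_P1 : ∀ w, wl w ∈ P1s → w = 0 ∨ w = 2 := by decide +kernel

theorem wl_P2 : ∀ w, wl w ∈ P2s → w = 0 ∨ w = 1 := by decide +kernel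

theorem U_P1 (i j k : ZMod 3) : U i j k ∈ P1s := ⟨rfl, rfl⟩

theorem U_P2 (i j k : ZMod 3) : U i j k ∈ P2s := ⟨rfl, rfl⟩

theorem Up.P1 {b : X3} (h : Up b) : b ∈ P1s := ⟨h.1, h.2.1⟩

theorem Up.P2 {b : X3} (h : Up b) : b ∈ P2s := ⟨h.2.1, h.2.2⟩

theorem U_up (i j k : ZMod 3) : Up (U i j k) := ⟨rfl, rfl, rfl⟩

section

variable {F : Type*} [Field F] {V : Type*} [AddCommGroup V] [Module F V] [FiniteDimensional F V]
variable {ρ : X3 →* (V →ₗ[F] V)}

theorem FB.P1 {v : V} (h : FB ρ v) (hn : ρ n2 v = v) : ∀ k ∈ P1s, ρ k v = v := by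
  intro g hg
  obtain ⟨i, j, k, w, b, hb, rfl⟩ := bruhat g
  have h1 : wl w ∈ P1s := by
    have := P1s.mul_mem (P1s.mul_mem (P1s.inv_mem (U_P1 i j k)) hg) (P1s.inv_mem hb.P1)
    rwa [show (U i j k)⁻¹ * (U i j k * wl w * b) * b⁻¹ = wl w by group] at this
  rw [rmul, rmul, h.up hb]
  rcases wl_P1 w h1 with rfl | rfl
  · change ρ (U i j k) (ρ 1 v) = v
    rw [rone, h.up (U_up i j k)]
  · change ρ (U i j k) (ρ n2 v) = v
    rw [hn, h.up (U_up i j k)]

theorem FB.P2 {v : V} (h : FB ρ v) (hn : ρ n1 v = v) : ∀ k ∈ P2s, ρ k v = v := by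
  intro g hg
  obtain ⟨i, j, k, w, b, hb, rfl⟩ := bruhat g
  have h1 : wl w ∈ P2s := by
    have := P2s.mul_mem (P2s.mul_mem (P2s.inv_mem (U_P2 i j k)) hg) (P2s.inv_mem hb.P2)
    rwa [show (U i j k)⁻¹ * (U i j k * wl w * b) * b⁻¹ = wl w by group] at this
  rw [rmul, rmul, h.up hb]
  rcases wl_P2 w h1 with rfl | rfl
  · change ρ (U i j k) (ρ 1 v) = v
    rw [rone, h.up (U_up i j k)]
  · change ρ (U i j k) (ρ n1 v) = v
    rw [hn, h.up (U_up i j k)]

/-- **The irreducible representations of degree at most 12.** -/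
theorem main (h3 : (3 : F) ≠ 0) (hI : Irr ρ) (hnt : ∃ g x, ρ g x ≠ x) (hn : finrank F V ≤ 12) :
    (finrank F V = 11 ∧ (13 : F) = 0 ∧ NoP ρ ∧ ∃ v, FB ρ v ∧ v ≠ 0) ∨
    (finrank F V = 12 ∧ ∃ K : Subgroup X3, (K = P1s ∨ K = P2s) ∧ ∃ v, v ≠ 0 ∧ (∀ k ∈ K, ρ k v = v) ∧
      ∑ᶠ x, cv ρ K v x = 0) := by
  obtain ⟨h1, h2, hD⟩ := cases ρ h3 hn hnt
  have hne := D0_ne_bot ρ h3 hn hnt
  obtain ⟨v, hv⟩ := exists_B ρ h3 hne (by omega)
  have hpos : 0 < finrank F (D0 ρ) := Submodule.one_le_finrank_iff.2 hne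
  have hfb := hv.fb
  by_cases hP : NoP ρ
  · left
    have h4 := D0_one h3 hI hP hfb hv.ne
    have h5 : (2 : F) ≠ 0 := two_ne h3 hI hP (by omega) hfb hv.ne
    have h6 := rel13 h3 hP hD hfb hv.ne
    have h7 : (13 : F) = 0 := by
      have h8 : (2 : F) ^ 3 * 13 = 0 := by linear_combination h6
      exact (mul_eq_zero.1 h8).resolve_left (pow_ne_zero 3 h5)
    exact ⟨by omega, h7, hP, v, hfb, hv.ne⟩
  · right
    obtain ⟨K, hK, u, hu0, hu⟩ : ∃ K : Subgroup X3, (K = P1s ∨ K = P2s) ∧ ∃ u, u ≠ 0 ∧ (∀ k ∈ K, ρ k u = u) := by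
      by_contra hcon
      push Not at hcon
      apply hP
      refine ⟨fun u hu h8 => ?_, fun u hu h8 => ?_⟩
      · by_contra h0
        obtain ⟨k, hk, hk'⟩ := hcon P2s (Or.inr rfl) u h0
        exact hk' (hu.P2 h8 k hk)
      · by_contra h0
        obtain ⟨k, hk, hk'⟩ := hcon P1s (Or.inl rfl) u h0
        exact hk' (hu.P1 h8 k hk)
    have hidx : K.index = 13 := by
      rcases hK with rfl | rfl
      · exact index_P1
      · exact index_P2
    obtain ⟨h4, h5⟩ := perm_case h3 hI (by omega) hidx hu0 hu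
    exact ⟨by omega, K, hK, u, hu0, hu, h5 hn⟩

/-- degree 12 : the traces -/
theorem trace_twelve (hI : Irr ρ) (hn : finrank F V = 12) {K : Subgroup X3} (hidx : K.index = 13) {v : V} (hv0 : v ≠ 0)
    (hv : ∀ k ∈ K, ρ k v = v) (hs : ∑ᶠ x, cv ρ K v x = 0) (g : X3) :
    LinearMap.trace F V (ρ g) = (Nat.card {x : X3 ⧸ K // g • x = x} : F) - 1 := by
  classical
  have hfi : Finite (X3 ⧸ K) := Nat.finite_of_card_ne_zero (by
    change K.index ≠ 0
    rw [hidx]; norm_num)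
  have : Fintype (X3 ⧸ K) := Fintype.ofFinite _
  have hcard : Fintype.card (X3 ⧸ K) = 13 := by
    rw [← Nat.card_eq_fintype_card]; exact hidx
  rw [finsum_eq_sum_of_fintype] at hs
  rw [trace_sys (span_cv hI hv0 hv) (by rw [hcard, hn]) hs (T := ρ g) (σ := MulAction.toPerm g)
    (fun x => cv_smul hv g x)]
  congr 2
  rw [Nat.card_eq_fintype_card, Fintype.card_subtype]
  rfl

theorem trace_twelve_inv (hI : Irr ρ) (hn : finrank F V = 12) {K : Subgroup X3} (hidx : K.index = 13) {v : V}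
    (hv0 : v ≠ 0) (hv : ∀ k ∈ K, ρ k v = v) (hs : ∑ᶠ x, cv ρ K v x = 0) (g : X3) :
    LinearMap.trace F V (ρ g⁻¹) = LinearMap.trace F V (ρ g) := by
  rw [trace_twelve hI hn hidx hv0 hv hs, trace_twelve hI hn hidx hv0 hv hs]
  congr 2
  apply Nat.card_congr
  refine Equiv.subtypeEquivRight fun x => ?_
  rw [inv_smul_eq_iff, eq_comm]

end

end Cfsg.Agent.H175.LD
end

-- part: H175/LD/Core33
section
/-!
# Cores isomorphic to `L₃(3)` in degree at most 12 (helper175)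
-/

set_option autoImplicit false
set_option linter.unusedSectionVars false

namespace Cfsg.Agent.H175.L33

open Matrix Cfsg Cfsg.Geo Cfsg.Agent.H915.LD
open Cfsg.Agent.H175.LD (X3 Irr FB NoP P1s P2s cv)

universe u v

variable {ι : Type} [Fintype ι] [DecidableEq ι] {F : Type u} [Field F] [Finite F] {P : Subgroup (GL ι F)}

theorem center_X3 : Subgroup.center X3 = ⊥ := by
  rw [Subgroup.eq_bot_iff_forall]
  intro A hA
  rw [Matrix.SpecialLinearGroup.mem_center_iff] at hA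
  obtain ⟨r, hr, hrA⟩ := hA
  have hr1 : r = 1 := by
    rw [Fintype.card_fin] at hr
    have key : ∀ r : ZMod 3, r ^ 3 = 1 → r = 1 := by decide
    exact key r hr
  apply Subtype.ext
  rw [← hrA, hr1]
  simp

/-- `PSL₃(K) ≃ SL₃(3)` for `|K| = 3` -/
theorem nonempty_X3 {K : Type v} [Field K] [Fintype K] (hK : Fintype.card K = 3) :
    Nonempty (Matrix.ProjectiveSpecialLinearGroup (Fin 3) K ≃* X3) :=
  ⟨(LieClassical.FieldTransfer.pslCongr (ZMod.ringEquivOfPrime K (by norm_num) hK)).symm.trans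
    ((QuotientGroup.quotientMulEquivOfEq center_X3).trans QuotientGroup.quotientBot)⟩

/-- `P ≃ SL₃(3)` -/
theorem exists_equiv (hC : Core P) {K : Type v} [Field K] [Fintype K] (hK : Fintype.card K = 3)
    (e : Soc P ≃* Matrix.ProjectiveSpecialLinearGroup (Fin 3) K) :
    (scalars ι F).subgroupOf P = ⊥ ∧ Nonempty (X3 ≃* P) := by
  have hA := H60.MultA.hasMultiplier_PSL (F := K) (n := 3) (by
    rw [Nat.card_eq_fintype_card, hK]
    exact ⟨by norm_num, by norm_num, by decide⟩)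
  rw [Nat.card_eq_fintype_card, hK] at hA
  have hcop : (Nat.card (Multiplicative (ZMod (Nat.gcd 3 (3 - 1))))).Coprime (Fintype.card ι) := by
    have : Nat.gcd 3 (3 - 1) = 1 := by decide
    rw [this]
    simp only [_root_.Nat.card_eq_fintype_card, _root_.Fintype.card_unique, _root_.Nat.coprime_one_left_eq_true]
  refine ⟨hC.scalars_eq_bot e hA hcop, ?_⟩
  obtain ⟨e', -⟩ := hC.equiv_of_coprime e hA hcop
  obtain ⟨e''⟩ := nonempty_X3 hK
  exact ⟨(e'.trans e'').symm⟩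

/-- the representation -/
noncomputable def rep (φ : X3 ≃* P) : X3 →* ((ι → F) →ₗ[F] (ι → F)) :=
  ((Matrix.toLinAlgEquiv' (R := F) (n := ι)).toAlgHom.toRingHom.toMonoidHom).comp
    ((Units.coeHom (Matrix ι ι F)).comp (P.subtype.comp φ.toMonoidHom))

theorem rep_apply (φ : X3 ≃* P) (g : X3) (x : ι → F) : rep φ g x = ((φ g : P) : GL ι F).1 *ᵥ x := rfl

theorem rep_irr (hC : Core P) (φ : X3 ≃* P) : Irr (rep φ) := by
  intro W hW
  refine hC.absIrred.1 W ?_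
  rintro _ ⟨g, hg, rfl⟩
  rintro _ ⟨x, hx, rfl⟩
  have h1 := hW (φ.symm ⟨g, hg⟩) x hx
  rw [rep_apply, MulEquiv.apply_symm_apply] at h1
  exact h1

theorem rep_nt (hC : Core P) (φ : X3 ≃* P) : ∃ g x, rep φ g x ≠ x := by
  by_contra hcon
  push Not at hcon
  apply hC.nonabelian
  have h1 : ∀ g : P, g = 1 := by
    intro g
    apply Subtype.ext
    apply Units.ext
    have h2 := hcon (φ.symm g)
    rw [Subgroup.coe_one, Units.val_one]
    ext i j
    have h3 := congrFun (h2 (Pi.single j 1)) i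
    rw [rep_apply, MulEquiv.apply_symm_apply, Matrix.mulVec_single_one, Matrix.col_apply] at h3
    rw [h3, Pi.single_apply, Matrix.one_apply]
  have h2 : Subsingleton (Soc P) := by
    constructor
    intro a b
    induction a using QuotientGroup.induction_on with
    | H a =>
      induction b using QuotientGroup.induction_on with
      | H b => rw [h1 a, h1 b]
  exact ⟨⟨fun a b => Subsingleton.elim _ _⟩⟩

theorem rep_trace (φ : X3 ≃* P) (g : X3) : LinearMap.trace F (ι → F) (rep φ g) = tr ((φ g : P) : GL ι F) := by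
  have : rep φ g = Matrix.toLin' (((φ g : P) : GL ι F).1) := by
    ext x i
    rfl
  rw [this, Matrix.trace_toLin'_eq]
  rfl

theorem three_ne {p : ℕ} [hp : Fact p.Prime] [CharP F p] (hp3 : p ≠ 3) : (3 : F) ≠ 0 := by
  intro h
  have h1 : ((3 : ℕ) : F) = 0 := by exact_mod_cast h
  rw [CharP.cast_eq_zero_iff F p] at h1
  exact hp3 ((Nat.prime_dvd_prime_iff_eq hp.out (by norm_num)).1 h1)

/-- the matrix representation -/
def mrep (φ : X3 ≃* P) : X3 →* Matrix ι ι F := (Units.coeHom (Matrix ι ι F)).comp (P.subtype.comp φ.toMonoidHom)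

theorem span_mrep (hC : Core P) (φ : X3 ≃* P) : Submodule.span F (Set.range (mrep φ)) = ⊤ := by
  rw [← Cfsg.Agent.H920.span_eq_top hC.absIrred]
  congr 1
  ext X
  constructor
  · rintro ⟨g, rfl⟩
    exact ⟨_, (φ g).2, rfl⟩
  · rintro ⟨g, hg, rfl⟩
    refine ⟨φ.symm ⟨g, hg⟩, ?_⟩
    change ((φ (φ.symm ⟨g, hg⟩) : P) : GL ι F).1 = g.1
    rw [MulEquiv.apply_symm_apply]

theorem wl_inv : ∀ w, ∃ w' d, (Cfsg.Agent.H175.LD.wl w)⁻¹ = Cfsg.Agent.H175.LD.wl w' * Cfsg.Agent.H175.LD.dg d ∧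
    Cfsg.Agent.H175.LD.ln w' = Cfsg.Agent.H175.LD.ln w := by
  (delta Cfsg.Agent.H175.LD.wl Cfsg.Agent.H175.LD.dg Cfsg.Agent.H175.LD.ln; set_option synthInstance.maxSize 100000 in exact Cfsg.Agent.Lib.Refl.of (by ((try (rewrite [Cfsg.Agent.LsF.instSLMul_eq, Cfsg.Agent.LsF.instSLInv_eq, Cfsg.Agent.LsF.instSLOne_eq, Cfsg.Agent.LsF.dSL_eq, Cfsg.Agent.LsF.vecCons_eq, Cfsg.Agent.LsF.zdecEq_eq])); decide +kernel)))

section coefinv

open Cfsg.Agent.H175.LD (e0 D0 U wl dg ln rmul rinv' e0_U e0_z1 e0_z2 Up up_eq bruhat e0_mem)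

variable {V : Type*} [AddCommGroup V] [Module F V] [FiniteDimensional F V] {ρ : X3 →* (V →ₗ[F] V)}

theorem dg_up (d : Fin 4) : Up (dg d) := by
  revert d; decide

theorem e0_dg (d : Fin 4) (x : V) : e0 ρ (ρ (dg d) x) = ρ (dg d) (e0 ρ x) := by
  fin_cases d
  · change e0 ρ (ρ 1 x) = ρ 1 (e0 ρ x)
    rw [LD.rone, LD.rone]
  · exact e0_z1 ρ x
  · exact e0_z2 ρ x
  · change e0 ρ (ρ LD.z12 x) = ρ LD.z12 (e0 ρ x)
    rw [← LD.z1_z2, rmul, rmul, e0_z1, e0_z2]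

theorem e0_U_inv (i j k : ZMod 3) (x : V) : e0 ρ (ρ (U i j k)⁻¹ x) = e0 ρ x := by
  rw [← e0_U ρ i j k (ρ (U i j k)⁻¹ x), rinv']

theorem coef_inv (h3 : (3 : F) ≠ 0) (hP : NoP ρ) {v : V} (h : FB ρ v) (hD : D0 ρ ≤ Submodule.span F {v}) (g : X3) :
    e0 ρ (ρ g⁻¹ v) = e0 ρ (ρ g v) := by
  obtain ⟨i, j, k, w, b, hb, rfl⟩ := bruhat g
  have h1 : e0 ρ (ρ (U i j k * wl w * b) v) = (-(3 : F)⁻¹) ^ ln w • v :=
    h.coef' h3 hP (i := i) (j := j) (k := k) (by rwa [inv_mul_cancel_left])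
  obtain ⟨i', j', k', d, rfl⟩ := up_eq hb
  obtain ⟨w', d', hw, hl⟩ := wl_inv w
  have hdd : (dg d)⁻¹ = dg d := inv_eq_of_mul_eq_one_right (LD.dg_sq d)
  have hU : ρ (U i j k)⁻¹ v = v := by
    apply LD.rinj ρ (U i j k)
    rw [rinv', h.up (LD.U_up i j k)]
  have hfix : ∀ y, ρ (dg d) (e0 ρ y) = e0 ρ y := by
    intro y
    obtain ⟨c, hc⟩ := Submodule.mem_span_singleton.1 (hD (e0_mem ρ y))
    rw [← hc, map_smul, h.up (dg_up d)]
  rw [h1, show (U i j k * wl w * (U i' j' k' * dg d))⁻¹ = (dg d)⁻¹ * ((U i' j' k')⁻¹ * ((wl w)⁻¹ * (U i j k)⁻¹)) by group,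
    rmul, rmul, rmul, hU, hdd, e0_dg, e0_U_inv, hfix, hw, rmul, h.up (dg_up d'), h.coef h3 hP, hl]

/-- the functional -/
theorem exists_functional {v : V} (hv : v ≠ 0) (hD : D0 ρ ≤ Submodule.span F {v}) :
    ∃ f : V →ₗ[F] F, ∀ x, e0 ρ x = f x • v := by
  let A : V →ₗ[F] Submodule.span F {v} := (e0 ρ).codRestrict _ (fun x => hD (e0_mem ρ x))
  let B := (LinearEquiv.toSpanNonzeroSingleton F V v hv).symm
  refine ⟨B.toLinearMap ∘ₗ A, fun x => ?_⟩
  have h1 : (LinearEquiv.toSpanNonzeroSingleton F V v hv) (B (A x)) = A x := LinearEquiv.apply_symm_apply _ _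
  have h2 := congrArg Subtype.val h1
  rw [LinearEquiv.toSpanNonzeroSingleton_apply] at h2
  exact h2.symm

end coefinv

/-- **Degree 11.** -/
theorem eleven (hC : Core P) (φ : X3 ≃* P) (p : ℕ) [hp : Fact p.Prime] [CharP F p] (hp3 : p ≠ 3)
    (hP : NoP (rep φ)) {v : ι → F} (hfb : FB (rep φ) v) (hv : v ≠ 0) : SD P ∧ Fr P p := by
  have h3 : (3 : F) ≠ 0 := three_ne hp3
  have hI := rep_irr hC φ
  have hD := LD.D0_le h3 hI hP hfb hv
  obtain ⟨f, hf⟩ := exists_functional hv hD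
  -- the vector of the functional
  let l : ι → F := fun j => f (Pi.single j 1)
  have hl : ∀ x : ι → F, l ⬝ᵥ x = f x := by
    intro x
    have h1 : x = ∑ j, x j • Pi.single j (1 : F) := by
      funext i
      rw [Finset.sum_apply, Finset.sum_eq_single i]
      · simp
      · intro j _ hj; simp [hj.symm]
      · intro h; exact absurd (Finset.mem_univ _) h
    conv_rhs => rw [h1]
    rw [map_sum, dotProduct]
    refine Finset.sum_congr rfl fun j _ => ?_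
    rw [map_smul, smul_eq_mul, mul_comm]
  have hfv : f v = 1 := by
    have h1 := hf v
    rw [LD.e0_fix _ h3 hfb.mem] at h1
    have h2 : (1 - f v) • v = 0 := by rw [sub_smul, one_smul, ← h1, sub_self]
    have h4 := (smul_eq_zero.1 h2).resolve_right hv
    linear_combination -h4
  have hl0 : l ≠ 0 := by
    intro h0
    have := hl v
    rw [h0, zero_dotProduct, hfv] at this
    exact zero_ne_one this
  have hcancel : ∀ a b : F, a • v = b • v → a = b := fun a b hab => by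
    have : (a - b) • v = 0 := by rw [sub_smul, hab, sub_self]
    exact sub_eq_zero.1 ((smul_eq_zero.1 this).resolve_right hv)
  have hval : ∀ g, l ⬝ᵥ (mrep φ g *ᵥ v) = f (rep φ g v) := fun g => hl _
  have hm : ∀ g, ∃ m : ℕ, f (rep φ g v) = (-(3 : F)⁻¹) ^ m := by
    intro g
    obtain ⟨m, hm⟩ := hfb.coef_all h3 hP g
    rw [hf] at hm
    exact ⟨m, hcancel _ _ hm⟩
  have htr : ∀ g : X3, (mrep φ g).trace = tr ((φ g : P) : GL ι F) := fun g => rfl
  constructor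
  · intro g hg
    have h1 := H906.trace_inv_of_coef (span_mrep hC φ) (RingEquiv.refl F) hl0 hv one_ne_zero (fun g => by
      rw [hval, hval, one_mul, RingEquiv.refl_apply]
      apply hcancel
      rw [← hf, ← hf, coef_inv h3 hP hfb hD]) (φ.symm ⟨g, hg⟩)
    rw [RingEquiv.refl_apply, htr, htr, map_inv, MulEquiv.apply_symm_apply] at h1
    exact h1.symm
  · intro g hg
    let σ : F ≃+* F := frobeniusEquiv F p
    have hσ : ∀ x, σ x = x ^ p := fun x => rfl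
    have h1 := H906.trace_fixed_of_coef (span_mrep hC φ) σ hl0 hv one_ne_zero (fun g => by
      obtain ⟨m, hm⟩ := hm g
      rw [hval, one_mul, hm, map_pow, map_neg, map_inv₀, map_ofNat]) (φ.symm ⟨g, hg⟩)
    rw [hσ, htr, MulEquiv.apply_symm_apply] at h1
    exact h1

/-- **Cores isomorphic to `L₃(3)`.** -/
theorem l33 (hC : Core P) (p : ℕ) [hp : Fact p.Prime] [CharP F p] (hp3 : p ≠ 3) {K : Type v} [Field K] [Fintype K]
    (hK : Fintype.card K = 3) (e : Soc P ≃* Matrix.ProjectiveSpecialLinearGroup (Fin 3) K) (hn : Fintype.card ι ≤ 12) :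
    (scalars ι F).subgroupOf P = ⊥ ∧ SD P ∧ Fr P p ∧ ((Fintype.card ι = 11 ∧ p = 13) ∨ Fintype.card ι = 12) := by
  obtain ⟨hs, ⟨φ⟩⟩ := exists_equiv hC hK e
  have h3 : (3 : F) ≠ 0 := three_ne hp3
  have hfr : Module.finrank F (ι → F) = Fintype.card ι := Module.finrank_fintype_fun_eq_card F
  refine ⟨hs, ?_⟩
  rcases LD.main h3 (rep_irr hC φ) (rep_nt hC φ) (by rw [hfr]; exact hn) with
    ⟨h11, h13, hP, v, hfb, hv⟩ | ⟨h12, K', hK', v, hv0, hv, hsum⟩
  · have hp13 : p = 13 := by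
      have h1 : ((13 : ℕ) : F) = 0 := by exact_mod_cast h13
      rw [CharP.cast_eq_zero_iff F p] at h1
      exact (Nat.prime_dvd_prime_iff_eq hp.out (by norm_num)).1 h1
    obtain ⟨h1, h2⟩ := eleven hC φ p hp3 hP hfb hv
    exact ⟨h1, h2, Or.inl ⟨by rw [← hfr, h11], hp13⟩⟩
  · have hidx : K'.index = 13 := by
      rcases hK' with rfl | rfl
      · exact LD.index_P1
      · exact LD.index_P2
    have ht := fun g => LD.trace_twelve (rep_irr hC φ) h12 hidx hv0 hv hsum g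
    have hti := fun g => LD.trace_twelve_inv (rep_irr hC φ) h12 hidx hv0 hv hsum g
    refine ⟨fun g hg => ?_, fun g hg => ?_, Or.inr (by rw [← hfr, h12])⟩
    · have h1 := hti (φ.symm ⟨g, hg⟩)
      rw [rep_trace, rep_trace, map_inv, MulEquiv.apply_symm_apply] at h1
      exact h1
    · have h1 := ht (φ.symm ⟨g, hg⟩)
      rw [rep_trace, MulEquiv.apply_symm_apply] at h1
      change tr g = _ at h1
      rw [h1, sub_pow_char, one_pow]
      congr 1
      exact map_natCast (frobenius F p) _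

end Cfsg.Agent.H175.L33
end
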